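import Cfsg.Agent.Lib.RuPerm.Code28
import Cfsg.Agent.Lib.Computation.PermCode
import Mathlib.Data.Fintype.Card

/-!
Kernel checkers for the graph on 4060 points: bounded quantifiers, the parity pairing of coded vectors,
injective tables, forests of invariant classes.
-/

set_option autoImplicit false

namespace Cfsg.Agent.Lib.RuRank3

open Cfsg.Agent.Lib.Computation (forceNat forceNat_eq getW)
open Cfsg.Agent.Lib.RuPerm Code28

/-- All numbers below `n` satisfy `f`. -/
def allN (n : ℕ) (f : ℕ → Bool) : Bool :=
  Nat.rec true (fun i acc => Bool.rec (motive := fun _ => Bool) false acc (f i)) n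

theorem allN_succ (n : ℕ) (f : ℕ → Bool) : allN (n + 1) f = (f n && allN n f) := by
  change Bool.rec (motive := fun _ => Bool) false (allN n f) (f n) = _
  cases f n <;> rfl

theorem allN_iff {n : ℕ} {f : ℕ → Bool} : allN n f = true ↔ ∀ i < n, f i = true := by
  induction n with
  | zero => simp [allN]
  | succ n ih =>
    rw [allN_succ, Bool.and_eq_true, ih]
    constructor
    · rintro ⟨h1, h2⟩ i hi
      rcases Nat.lt_succ_iff_lt_or_eq.1 hi with h | rfl
      · exact h2 i h
      · exact h1
    · exact fun h => ⟨h n (by omega), fun i hi => h i (by omega)⟩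

/-- The number of `i < n` with `f i`. -/
def cntN (n : ℕ) (f : ℕ → Bool) : ℕ :=
  Nat.rec 0 (fun i acc => bif f i then acc + 1 else acc) n

theorem cntN_succ (n : ℕ) (f : ℕ → Bool) :
    cntN (n + 1) f = if f n = true then cntN n f + 1 else cntN n f := by
  change (bif f n then cntN n f + 1 else cntN n f) = _
  cases f n <;> rfl

theorem cntN_eq {n : ℕ} (f : ℕ → Bool) :
    cntN n f = (Finset.univ.filter fun i : Fin n => f i.1 = true).card := by
  induction n with
  | zero => simp [cntN]
  | succ n ih =>
    rw [cntN_succ, ih, Finset.card_filter, Finset.card_filter, Fin.sum_univ_castSucc]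
    simp only [Fin.val_castSucc, Fin.val_last]
    split_ifs <;> simp

/-! ### The pairing -/

/-- The parity of a 28-bit number. -/
def par (x : ℕ) : Bool :=
  forceNat x fun a =>
    forceNat (Nat.xor a (Nat.shiftRight a 16)) fun b =>
      forceNat (Nat.xor b (Nat.shiftRight b 8)) fun c =>
        forceNat (Nat.xor c (Nat.shiftRight c 4)) fun d =>
          forceNat (Nat.xor d (Nat.shiftRight d 2)) fun e =>
            Nat.beq (Nat.land (Nat.xor e (Nat.shiftRight e 1)) 1) 1

/-- The parity of the common bits of two coded vectors. -/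
def dotB (a b : ℕ) : Bool := par (Nat.land a b)

theorem testBit_zero_eq (x : ℕ) : Nat.beq (Nat.land x 1) 1 = x.testBit 0 := by
  show Nat.beq (x &&& 1) 1 = _
  rw [Nat.and_one_is_mod, Nat.testBit_zero]
  rcases Nat.mod_two_eq_zero_or_one x with h | h <;> rw [h] <;> rfl

theorem bit_par {x : ℕ} (hx : x < 2 ^ 28) : bit (par x) = ∑ k : Fin 28, bit (x.testBit k.1) := by
  have hh : ∀ k, 28 ≤ k → x.testBit k = false := fun k hk =>
    Nat.testBit_lt_two_pow (lt_of_lt_of_le hx (Nat.pow_le_pow_right (by norm_num) hk))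
  have hf : ∀ a s k : ℕ, bit ((a ^^^ a >>> s).testBit k) = bit (a.testBit k) + bit (a.testBit (s + k)) := by
    intro a s k
    rw [Nat.testBit_xor, Nat.testBit_shiftRight, bit_xor]
  simp only [par, forceNat_eq, testBit_zero_eq]
  show bit ((_ ^^^ _ >>> 1).testBit 0) = _
  simp only [show ∀ a b : ℕ, Nat.xor a b = a ^^^ b from fun _ _ => rfl,
    show ∀ a b : ℕ, Nat.shiftRight a b = a >>> b from fun _ _ => rfl, hf, Nat.reduceAdd, Fin.sum_univ_succ, Fin.sum_univ_zero, Fin.val_zero, Fin.val_succ,
    hh 28 le_rfl, hh 29 (by norm_num), hh 30 (by norm_num), hh 31 (by norm_num)]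
  simp only [bit, Bool.false_eq_true, if_false]
  ring

theorem bit_dotB {a : ℕ} (ha : a < 2 ^ 28) (b : ℕ) : bit (dotB a b) = dotProduct (decV a) (decV b) := by
  rw [dotB]
  show bit (par (a &&& b)) = _
  rw [bit_par (lt_of_le_of_lt (Nat.and_le_left) ha)]
  refine Finset.sum_congr rfl fun k _ => ?_
  show bit ((a &&& b).testBit k.1) = bit (a.testBit k.1) * bit (b.testBit k.1)
  rw [Nat.testBit_and]
  cases a.testBit k.1 <;> cases b.testBit k.1 <;> decide

/-- Two codes are transposes of one another. -/
def okTr (C T : ℕ) : Bool :=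
  allN 28 fun i => allN 28 fun j => (lane C j).testBit i == (lane T i).testBit j

theorem dec_tr {C T : ℕ} (h : okTr C T = true) : dec T = (dec C).transpose := by
  funext w z
  show bit ((lane T z.1).testBit w.1) = bit ((lane C w.1).testBit z.1)
  rw [beq_iff_eq.1 (allN_iff.1 (allN_iff.1 h z.1 z.2) w.1 w.2)]

/-! ### Injective tables -/

/-- The values are pairwise distinct, by an ordering. -/
def okInj (n : ℕ) (v ord pos : ℕ → ℕ) : Bool :=
  (allN n fun i => Nat.blt (pos i) n && Nat.beq (ord (pos i)) i) &&
    allN (n - 1) fun r => Nat.blt (v (ord r)) (v (ord (r + 1)))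

theorem okInj_spec {n : ℕ} {v ord pos : ℕ → ℕ} (h : okInj n v ord pos = true) {i j : ℕ} (hi : i < n)
    (hj : j < n) (e : v i = v j) : i = j := by
  simp only [okInj, Bool.and_eq_true, allN_iff, Nat.blt_eq, Nat.beq_eq] at h
  obtain ⟨h1, h2⟩ := h
  have mono : ∀ r s, r < s → s < n → v (ord r) < v (ord s) := by
    intro r s hrs
    induction s, hrs using Nat.le_induction with
    | base => exact fun hs => h2 r (by omega)
    | succ s hs ih => exact fun hs' => (ih (by omega)).trans (h2 s (by omega))
  obtain ⟨hpi, ei⟩ := h1 i hi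
  obtain ⟨hpj, ej⟩ := h1 j hj
  rcases Nat.lt_trichotomy (pos i) (pos j) with hlt | heq | hgt
  · have := mono _ _ hlt hpj; rw [ei, ej, e] at this; omega
  · rw [← ei, ← ej, heq]
  · have := mono _ _ hgt hpi; rw [ei, ej, e] at this; omega

/-! ### Forests of classes -/

/-- The entry of a packed forest: label, depth, generator, parent. -/
def fE (tab i : ℕ) : ℕ := getW 28 tab i

/-- The label. -/
def fLab (tab i : ℕ) : ℕ := Nat.land (fE tab i) 15

/-- The depth. -/
def fDep (tab i : ℕ) : ℕ := Nat.land (Nat.shiftRight (fE tab i) 4) 63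

/-- The generator. -/
def fGen (tab i : ℕ) : ℕ := Nat.land (Nat.shiftRight (fE tab i) 10) 63

/-- The parent. -/
def fPar (tab i : ℕ) : ℕ := Nat.shiftRight (fE tab i) 16

/-- A forest for the maps `act g`, `g` in `gens`: a root of every label, every other point the image of
its parent. -/
def okForest (n nl tab : ℕ) (roots gens : List ℕ) (act : ℕ → ℕ → ℕ) : Bool :=
  Nat.beq roots.length nl &&
  allN n fun i => Nat.blt (fLab tab i) nl &&
    bif Nat.beq (fDep tab i) 0 then Nat.beq (roots.getD (fLab tab i) 0) i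
    else Nat.blt (fPar tab i) n && Nat.beq (fLab tab (fPar tab i)) (fLab tab i) &&
      Nat.blt (fDep tab (fPar tab i)) (fDep tab i) && gens.elem (fGen tab i) &&
      Nat.beq (act (fGen tab i) (fPar tab i)) i

/-- The mask of the roots in a set. -/
def rootMask (roots : List ℕ) (T : ℕ → Bool) : ℕ :=
  match roots with
  | [] => 0
  | r :: rs => (bif T r then 1 else 0) + 2 * rootMask rs T

theorem rootMask_lt : ∀ (roots : List ℕ) (T : ℕ → Bool), rootMask roots T < 2 ^ roots.length
  | [], _ => by simp [rootMask]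
  | r :: rs, T => by
    have := rootMask_lt rs T
    rw [rootMask, List.length_cons, pow_succ]
    cases T r <;> simp <;> omega

theorem testBit_rootMask : ∀ (roots : List ℕ) (T : ℕ → Bool) (l : ℕ), l < roots.length →
    (rootMask roots T).testBit l = T (roots.getD l 0)
  | [], _, _, h => by simp at h
  | r :: rs, T, 0, _ => by
    rw [rootMask, Nat.testBit_zero, List.getD_cons_zero]
    cases T r <;> simp
  | r :: rs, T, l + 1, h => by
    rw [rootMask, Nat.testBit_succ, List.getD_cons_succ, ← testBit_rootMask rs T l (by simpa using h)]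
    congr 1
    cases T r <;> simp <;> omega

/-- An invariant set is a union of classes. -/
theorem exists_mask {n nl tab : ℕ} {roots gens : List ℕ} {act : ℕ → ℕ → ℕ}
    (h : okForest n nl tab roots gens act = true) (T : ℕ → Bool)
    (hT : ∀ g ∈ gens, ∀ i < n, act g i < n → T (act g i) = T i) :
    ∃ m < 2 ^ nl, ∀ i < n, T i = m.testBit (fLab tab i) := by
  rw [okForest, Bool.and_eq_true, allN_iff] at h
  obtain ⟨hlen, h⟩ := h
  have hlen' : roots.length = nl := Nat.eq_of_beq_eq_true hlen
  refine ⟨rootMask roots T, hlen' ▸ rootMask_lt roots T, fun i hi => ?_⟩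
  induction hd : fDep tab i using Nat.strong_induction_on generalizing i with
  | _ d ih =>
    have hi' := h i hi
    rw [Bool.and_eq_true, Nat.blt_eq] at hi'
    obtain ⟨hl, hc⟩ := hi'
    cases hb : Nat.beq (fDep tab i) 0
    · rw [hb, cond_false] at hc
      simp only [Bool.and_eq_true, Nat.blt_eq, List.elem_iff] at hc
      obtain ⟨⟨⟨⟨hp, he⟩, hdep⟩, hg⟩, ha⟩ := hc
      have ea := Nat.eq_of_beq_eq_true ha
      rw [← Nat.eq_of_beq_eq_true he, ← ih _ (hd ▸ hdep) _ hp rfl]
      conv_lhs => rw [← ea]
      exact hT _ hg _ hp (by rw [ea]; exact hi)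
    · rw [hb, cond_true] at hc
      rw [testBit_rootMask roots T _ (hlen'.symm ▸ hl), Nat.eq_of_beq_eq_true hc]

/-- The size of a union of classes. -/
def szM (n tab m : ℕ) : ℕ := cntN n fun i => m.testBit (fLab tab i)

theorem card_mask {n tab m : ℕ} {T : Fin n → Bool} (h : ∀ i : Fin n, T i = m.testBit (fLab tab i.1)) :
    (Finset.univ.filter fun i : Fin n => T i = true).card = szM n tab m := by
  rw [szM, cntN_eq]
  simp only [h]

end Cfsg.Agent.Lib.RuRank3
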