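import Cfsg.Agent.Lib.RuRank3.Defs
import Cfsg.Agent.Lib.RuRank3.Stages

/-! Kernel checks of the stages bounding the automorphisms of the graph on 1755 points. -/

set_option autoImplicit false
set_option maxRecDepth 100000
set_option maxHeartbeats 4000000

namespace Cfsg.Agent.Lib.RuRank3

open Cfsg.Agent.Lib.Computation (getW)

/-- The pairs of base points with their common neighbours. -/
def pairTab : List (ℕ × ℕ × List ℕ) :=
  [(0, 139, Data.com0), (0, 2, Data.com1), (0, 3, Data.com2), (139, 2, Data.com3), (139, 3, Data.com4),
   (2, 3, Data.com5)]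

/-- A strictly increasing list. -/
def incB : List ℕ → Bool
  | a :: b :: l => Nat.blt a b && incB (b :: l)
  | _ => true

/-- The list is the set of common neighbours. -/
def okCom (p : ℕ × ℕ × List ℕ) : Bool :=
  Nat.blt p.1 1755 && Nat.blt p.2.1 1755 && incB p.2.2 &&
    p.2.2.all (fun w => Nat.blt w 1755 && (adjA p.1 w && adjA p.2.1 w)) &&
    Nat.beq p.2.2.length (cntN 1755 fun w => adjA p.1 w && adjA p.2.1 w)

/-- The number of common neighbours of a pair adjacent to a point. -/
def cntCom (p : ℕ × ℕ × List ℕ) (v : ℕ) : ℕ := (p.2.2.filter fun w => adjA v w).length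

/-- The counts agree with the given ones. -/
def cntsEq : List (ℕ × ℕ × List ℕ) → List ℕ → ℕ → Bool
  | [], _, _ => true
  | _ :: _, [], _ => false
  | p :: ps, c :: cs, v => Nat.beq (cntCom p v) c && cntsEq ps cs v

/-- A point that may be the image of `t` under an automorphism fixing `fx`. -/
def cand (fx : List ℕ) (ps : List (ℕ × ℕ × List ℕ)) (cs : List ℕ) (t v : ℕ) : Bool :=
  fx.all (fun f => !(Nat.beq f v) && (adjA f v == adjA f t)) && cntsEq ps cs v

/-- The pairs inside the first three base points. -/
def pairs3 : List (ℕ × ℕ × List ℕ) :=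
  [(0, 139, Data.com0), (0, 2, Data.com1), (139, 2, Data.com3)]

/-- The pair inside the first two base points. -/
def pairs2 : List (ℕ × ℕ × List ℕ) := [(0, 139, Data.com0)]

theorem com_ok : (pairTab.all okCom) = true := by decide +kernel

theorem fix_eq : Data.fix = [0, 139, 2, 3] := rfl

theorem stageY : cand [0] [] [] 139 139 = true ∧ cntN 1755 (cand [0] [] [] 139) = 1024 := by decide +kernel

theorem stageZ : cand [0, 139] pairs2 Data.zCnt 2 2 = true ∧
    Nat.ble (cntN 1755 (cand [0, 139] pairs2 Data.zCnt 2)) 5 = true := by decide +kernel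

theorem stageW : cand [0, 139, 2] pairs3 Data.wCnt 3 3 = true ∧
    Nat.ble (cntN 1755 (cand [0, 139, 2] pairs3 Data.wCnt 3)) 4 = true := by decide +kernel

theorem singles_ok : (Data.singles.all fun s => Nat.blt s.1 1755 && cand Data.fix pairTab s.2 s.1 s.1 &&
    allN 1755 fun v => !(cand Data.fix pairTab s.2 s.1 v) || Nat.beq v s.1) = true := by decide +kernel

/-- The determined points. -/
def known : List ℕ := Data.fix ++ Data.singles.map Prod.fst

/-- The signature of a point with respect to the determined points. -/
def sigK (v : ℕ) : ℕ := known.foldr (fun b acc => (bif adjA b v then 1 else 0) + 2 * acc) 0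

theorem known_ok : okInj 1755 sigK (getW 11 Data.knownOrd) (getW 11 Data.knownPos) = true ∧
    (known.all fun b => Nat.blt b 1755) = true := by decide +kernel

end Cfsg.Agent.Lib.RuRank3
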