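import Cfsg.Agent.Lib.RuRank3.Graph
import Cfsg.Agent.Lib.RuRank3.CheckStages
import Mathlib.GroupTheory.Index
import Mathlib.Data.Set.Card

/-! The graph on 1755 points has at most 35942400 automorphisms. -/

set_option autoImplicit false
set_option maxRecDepth 100000

namespace Cfsg.Agent.Lib.RuRank3

open Cfsg.Agent.Lib.Computation (getW)

attribute [local irreducible] getW dotB adjA sigK cntN cntCom

/-- The automorphisms fixing the listed points. -/
def fixG (L : List ℕ) : Subgroup (Equiv.Perm (Fin 1755)) where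
  carrier := {σ | σ ∈ UA ∧ ∀ i : Fin 1755, i.1 ∈ L → σ i = i}
  mul_mem' {σ τ} hσ hτ := ⟨mul_mem hσ.1 hτ.1, fun i hi => by
    rw [Equiv.Perm.mul_apply, hτ.2 i hi, hσ.2 i hi]⟩
  one_mem' := ⟨one_mem _, fun _ _ => rfl⟩
  inv_mem' {σ} hσ := ⟨inv_mem hσ.1, fun i hi => by
    conv_lhs => rw [← hσ.2 i hi]
    exact σ.symm_apply_apply i⟩

theorem incB_pairwise : ∀ {L : List ℕ}, incB L = true → L.Pairwise (· < ·)
  | [], _ => List.Pairwise.nil
  | [_], _ => List.pairwise_singleton _ _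
  | a :: b :: l, h => by
    simp only [incB, Bool.and_eq_true, Nat.blt_eq] at h
    have hp := incB_pairwise h.2
    refine List.pairwise_cons.2 ⟨fun x hx => ?_, hp⟩
    rcases List.mem_cons.1 hx with rfl | hx
    · exact h.1
    · exact h.1.trans ((List.pairwise_cons.1 hp).1 x hx)

theorem cntCom_eq {p : ℕ × ℕ × List ℕ} (h : okCom p = true) (v : ℕ) : cntCom p v =
    (Finset.univ.filter fun w : Fin 1755 =>
      (adjA p.1 w.1 = true ∧ adjA p.2.1 w.1 = true) ∧ adjA v w.1 = true).card := by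
  simp only [okCom, Bool.and_eq_true, List.all_eq_true, Nat.blt_eq] at h
  obtain ⟨⟨⟨-, hinc⟩, hmem⟩, hlen⟩ := h
  have hnd : p.2.2.Nodup := (incB_pairwise hinc).imp (fun e => Nat.ne_of_lt e)
  set F := Finset.univ.filter fun w : Fin 1755 => adjA p.1 w.1 = true ∧ adjA p.2.1 w.1 = true with hF
  have hcard : p.2.2.length = F.card := by
    rw [Nat.eq_of_beq_eq_true hlen, cntN_eq, hF]
    simp only [Bool.and_eq_true]
  have hsub : p.2.2.toFinset ⊆ F.map Fin.valEmbedding := by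
    intro w hw
    obtain ⟨hlt, hp⟩ := hmem w (List.mem_toFinset.1 hw)
    exact Finset.mem_map.2 ⟨⟨w, hlt⟩, by simpa [hF] using hp, rfl⟩
  have heq : p.2.2.toFinset = F.map Fin.valEmbedding :=
    Finset.eq_of_subset_of_card_le hsub
      (by rw [Finset.card_map, List.toFinset_card_of_nodup hnd, hcard])
  rw [cntCom, ← List.toFinset_card_of_nodup (hnd.filter _), List.toFinset_filter, heq, Finset.filter_map,
    Finset.card_map, hF, Finset.filter_filter]
  rfl

theorem cntCom_fix {p : ℕ × ℕ × List ℕ} (h : okCom p = true) {σ : Equiv.Perm (Fin 1755)} {fx : List ℕ}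
    (hσ : σ ∈ fixG fx) (h1 : p.1 ∈ fx) (h2 : p.2.1 ∈ fx) (t : Fin 1755) :
    cntCom p (σ t).1 = cntCom p t.1 := by
  rw [cntCom_eq h, cntCom_eq h]
  simp only [okCom, Bool.and_eq_true, List.all_eq_true, Nat.blt_eq] at h
  obtain ⟨⟨⟨⟨hp1, hp2⟩, -⟩, -⟩, -⟩ := h
  refine (Finset.card_equiv σ fun w => ?_).symm
  simp only [Finset.mem_filter, Finset.mem_univ, true_and]
  have e1 := hσ.1 ⟨p.1, hp1⟩ w
  rw [hσ.2 ⟨p.1, hp1⟩ h1] at e1
  have e2 := hσ.1 ⟨p.2.1, hp2⟩ w
  rw [hσ.2 ⟨p.2.1, hp2⟩ h2] at e2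
  rw [e1, e2, hσ.1 t w]

theorem cntsEq_fix {σ : Equiv.Perm (Fin 1755)} {fx : List ℕ} (hσ : σ ∈ fixG fx) (t : Fin 1755) :
    ∀ {ps : List (ℕ × ℕ × List ℕ)} (cs : List ℕ), (∀ p ∈ ps, okCom p = true ∧ p.1 ∈ fx ∧ p.2.1 ∈ fx) →
      cntsEq ps cs t.1 = true → cntsEq ps cs (σ t).1 = true
  | [], _, _, _ => rfl
  | _ :: _, [], _, h => by simp [cntsEq] at h
  | p :: ps, c :: cs, hps, h => by
    obtain ⟨hp, hp1, hp2⟩ := hps p List.mem_cons_self
    rw [cntsEq, Bool.and_eq_true] at h ⊢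
    rw [cntCom_fix hp hσ hp1 hp2]
    exact ⟨h.1, cntsEq_fix hσ t cs (fun q hq => hps q (List.mem_cons_of_mem _ hq)) h.2⟩

theorem cand_fix {σ : Equiv.Perm (Fin 1755)} {fx : List ℕ} (hσ : σ ∈ fixG fx)
    (hfx : ∀ f ∈ fx, f < 1755) {ps : List (ℕ × ℕ × List ℕ)}
    (hps : ∀ p ∈ ps, okCom p = true ∧ p.1 ∈ fx ∧ p.2.1 ∈ fx) {cs : List ℕ} (t : Fin 1755)
    (h : cand fx ps cs t.1 t.1 = true) : cand fx ps cs t.1 (σ t).1 = true := by
  simp only [cand, Bool.and_eq_true, List.all_eq_true, Bool.not_eq_true', beq_iff_eq] at h ⊢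
  refine ⟨fun f hf => ?_, cntsEq_fix hσ t cs hps h.2⟩
  have hf' := hσ.2 ⟨f, hfx f hf⟩ hf
  refine ⟨?_, ?_⟩
  · rw [beq_eq_decide, decide_eq_false_iff_not]
    intro e
    have e' : σ ⟨f, hfx f hf⟩ = σ t := hf'.trans (Fin.ext e)
    have := (h.1 f hf).1
    rw [← Fin.val_eq_of_eq (σ.injective e'), beq_eq_decide] at this
    simp at this
  · have := hσ.1 ⟨f, hfx f hf⟩ t
    rwa [hf'] at this

theorem card_le_orbit_mul {α : Type*} [Finite α] (H : Subgroup (Equiv.Perm α)) (x : α) :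
    Nat.card H ≤ (MulAction.orbit H x).ncard *
      Nat.card ↥(H ⊓ MulAction.stabilizer (Equiv.Perm α) x) := by
  have h := (MulAction.stabilizer H x).card_mul_index
  rw [MulAction.index_stabilizer] at h
  rw [← h, mul_comm]
  refine Nat.mul_le_mul_left _ (Nat.card_le_card_of_injective
    (fun p => ⟨p.1.1, p.1.2, p.2⟩) fun a b e => ?_)
  exact Subtype.ext (Subtype.ext (congrArg (fun z => z.1) e))

theorem card_step {fx : List ℕ} (hfx : ∀ f ∈ fx, f < 1755) {ps : List (ℕ × ℕ × List ℕ)}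
    (hps : ∀ p ∈ ps, okCom p = true ∧ p.1 ∈ fx ∧ p.2.1 ∈ fx) {cs : List ℕ} (t : Fin 1755)
    (h : cand fx ps cs t.1 t.1 = true) {B : ℕ} (hB : cntN 1755 (cand fx ps cs t.1) ≤ B) :
    Nat.card (fixG fx) ≤ B * Nat.card (fixG (fx ++ [t.1])) := by
  refine (card_le_orbit_mul (fixG fx) t).trans (Nat.mul_le_mul ?_ ?_)
  · refine le_trans ?_ hB
    rw [cntN_eq, ← Set.ncard_coe_finset]
    refine Set.ncard_le_ncard ?_
    rintro _ ⟨σ, rfl⟩
    simp only [Finset.coe_filter, Finset.mem_univ, true_and]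
    exact cand_fix σ.2 hfx hps t h
  · refine Nat.card_le_card_of_injective (fun p => ⟨p.1, p.2.1.1, fun i hi => ?_⟩)
      (fun a b e => Subtype.ext (congrArg (fun z => z.1) e))
    rcases List.mem_append.1 hi with hi | hi
    · exact p.2.1.2 i hi
    · rw [Fin.ext (List.mem_singleton.1 hi) (b := t)]
      exact p.2.2

theorem com_mem {ps : List (ℕ × ℕ × List ℕ)} {fx : List ℕ} (hs : ∀ p ∈ ps, p ∈ pairTab)
    (hf : (ps.all fun p => fx.elem p.1 && fx.elem p.2.1) = true) :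
    ∀ p ∈ ps, okCom p = true ∧ p.1 ∈ fx ∧ p.2.1 ∈ fx := by
  intro p hp
  have h := List.all_eq_true.1 hf p hp
  simp only [Bool.and_eq_true, List.elem_iff] at h
  exact ⟨List.all_eq_true.1 com_ok p (hs p hp), h.1, h.2⟩

theorem sigK_def (v : ℕ) :
    sigK v = known.foldr (fun b acc => (bif adjA b v then 1 else 0) + 2 * acc) 0 := by
  rw [sigK]

theorem fixG_known {σ : Equiv.Perm (Fin 1755)} (hσ : σ ∈ fixG Data.fix) : σ = 1 := by
  have hk : ∀ i : Fin 1755, i.1 ∈ known → σ i = i := by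
    intro i hi
    rcases List.mem_append.1 hi with hi | hi
    · exact hσ.2 i hi
    obtain ⟨s, hs, e⟩ := List.mem_map.1 hi
    have h := List.all_eq_true.1 singles_ok s hs
    simp only [Bool.and_eq_true, allN_iff, Bool.or_eq_true, Bool.not_eq_true'] at h
    obtain ⟨⟨-, hc⟩, hu⟩ := h
    rw [e] at hc hu
    have hfx : ∀ f ∈ Data.fix, f < 1755 := by rw [fix_eq]; decide
    have hps := com_mem (ps := pairTab) (fx := Data.fix) (fun _ h => h) (by decide +kernel)
    have := cand_fix hσ hfx hps i hc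
    rcases hu (σ i).1 (σ i).2 with h' | h'
    · rw [this] at h'; exact absurd h' (by simp)
    · exact Fin.ext (Nat.eq_of_beq_eq_true h')
  refine Equiv.ext fun j => ?_
  refine Fin.ext (okInj_spec known_ok.1 (σ j).2 j.2 ?_)
  have hb := List.all_eq_true.1 known_ok.2
  simp only [Nat.blt_eq] at hb
  rw [sigK_def, sigK_def]
  refine foldr_congr _ _ _ fun b hb' acc => ?_
  have e := hσ.1 ⟨b, hb b hb'⟩ j
  rw [hk ⟨b, hb b hb'⟩ hb'] at e
  simp only at e
  rw [e]
  rfl

theorem card_UA_le : Nat.card UA ≤ 35942400 := by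
  have e0 : Nat.card UA ≤ Nat.card (fixG []) :=
    Nat.card_le_card_of_injective (fun p => ⟨p.1, p.2, fun i hi => absurd hi (by simp)⟩)
      fun a b e => Subtype.ext (congrArg (fun z => z.1) e)
  have h0 : Nat.card (fixG []) ≤ 1755 * Nat.card (fixG [0]) := by
    refine card_step (fx := []) (ps := []) (cs := []) (by simp) (by simp) (0 : Fin 1755) rfl ?_
    rw [cntN_eq]
    exact (Finset.card_le_univ _).trans (by simp)
  have h1 : Nat.card (fixG [0]) ≤ 1024 * Nat.card (fixG [0, 139]) :=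
    card_step (fx := [0]) (by decide) (ps := []) (cs := []) (by simp) (139 : Fin 1755) stageY.1 stageY.2.le
  have h2 : Nat.card (fixG [0, 139]) ≤ 5 * Nat.card (fixG [0, 139, 2]) :=
    card_step (fx := [0, 139]) (by decide) (ps := pairs2)
      (com_mem (fun p hp => by simp only [pairs2, List.mem_singleton] at hp; subst hp; simp [pairTab])
        (by decide +kernel))
      (2 : Fin 1755) stageZ.1 (Nat.le_of_ble_eq_true stageZ.2)
  have h3 : Nat.card (fixG [0, 139, 2]) ≤ 4 * Nat.card (fixG [0, 139, 2, 3]) :=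
    card_step (fx := [0, 139, 2]) (by decide) (ps := pairs3)
      (com_mem (fun p hp => by
        simp only [pairs3, List.mem_cons, List.not_mem_nil, or_false] at hp
        rcases hp with rfl | rfl | rfl <;> simp [pairTab]) (by decide +kernel))
      (3 : Fin 1755) stageW.1 (Nat.le_of_ble_eq_true stageW.2)
  have h4 : Nat.card (fixG [0, 139, 2, 3]) ≤ 1 := by
    have : Subsingleton (fixG [0, 139, 2, 3]) := ⟨fun a b => Subtype.ext (by
      rw [fixG_known (σ := a.1) (by rw [fix_eq]; exact a.2), fixG_known (σ := b.1) (by rw [fix_eq]; exact b.2)])⟩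
    exact Finite.card_le_one_iff_subsingleton.2 this
  nlinarith

end Cfsg.Agent.Lib.RuRank3
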