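import Cfsg.Agent.Lib.RuRank3.Defs

/-! Kernel checks of automorphisms 0 to 7. -/

set_option autoImplicit false
set_option maxRecDepth 100000

namespace Cfsg.Agent.Lib.RuRank3

open Cfsg.Agent.Lib.Computation (getW okPerm)
open Cfsg.Agent.Lib.RuPerm Code28

set_option maxHeartbeats 4000000

theorem okAuto0 : allN 8 (fun k => okAuto (k + 0)) = true := by decide +kernel

end Cfsg.Agent.Lib.RuRank3
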