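import Cfsg.Agent.Lib.RuRank3.Defs
import Cfsg.Agent.Lib.RuRank3.Classes

/-! Kernel checks of the forests of classes. -/

set_option autoImplicit false
set_option maxRecDepth 100000
set_option maxHeartbeats 4000000

namespace Cfsg.Agent.Lib.RuRank3

open Cfsg.Agent.Lib.Computation (getW)

/-- The action of a listed automorphism on the neighbours of the first point. -/
def actAL (L : List ℕ) (g i : ℕ) : ℕ := actN (L.getD g 0) i

/-- The action of a listed automorphism on the non-neighbours of the first point. -/
def actBL (L : List ℕ) (g j : ℕ) : ℕ := getW 12 (autP (L.getD g 0)) (j + 1756) - 1756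

/-- Generators of the stabiliser of a neighbour. -/
def idsU0 : List ℕ := [0, 1, 2, 3, 4, 5, 6, 7, 8, 9, 10, 11, 13]

/-- Generators of the stabiliser of the point 1756. -/
def idsW0 : List ℕ := [20, 21]

theorem clS2_ok : okForest 1755 8 Data.clS2 Data.clS2Roots (List.range 12) (actAL (List.range 12)) = true := by
  decide +kernel

theorem clU0_ok : okForest 1755 5 Data.clU0 Data.clU0Roots (List.range 13) (actAL idsU0) = true := by
  decide +kernel

theorem clA_ok : okForest 1755 1 Data.clA Data.clARoots (List.range 14) (actAL (List.range 14)) = true := by
  decide +kernel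

theorem clB_ok : okForest 2304 1 Data.clB Data.clBRoots (List.range 14) (actBL (List.range 14)) = true := by
  decide +kernel

theorem clW0_ok : okForest 2304 6 Data.clW0 Data.clW0Roots (List.range 2) (actBL idsW0) = true := by
  decide +kernel

end Cfsg.Agent.Lib.RuRank3
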