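import Cfsg.Agent.Lib.RuRank3.Defs
import Cfsg.Agent.Lib.TwistedF4Two.Bruhat

/-! Kernel checks comparing the 1755 vectors of the Ree group with the neighbours of a point. -/

set_option autoImplicit false
set_option maxRecDepth 100000
set_option maxHeartbeats 4000000

namespace Cfsg.Agent.Lib.RuRank3

open Cfsg.Agent.Lib.Computation (getW)
open Cfsg.Agent.Lib.TwistedF4Two Mat Bruhat

/-- The vector of a neighbour. -/
def vV (i : ℕ) : ℕ := getW 52 Data.vTab i

/-- The root word of a generator. -/
def gWord (k : ℕ) : List ℕ := bif Nat.blt k 12 then hw k else sw (k - 12)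

/-- A generator permutes the vectors as the automorphism with the same number. -/
def okVec (k : ℕ) : Bool :=
  okW (gWord k) && Computation.forceNat (code (gWord k)) fun B =>
    allN 1755 fun i => Nat.beq (vmul (vV i) B 52) (vV (actN k i))

theorem okVec_lo : allN 7 okVec = true := by decide +kernel

theorem okVec_hi : allN 7 (fun k => okVec (k + 7)) = true := by decide +kernel

theorem vV_ok : okInj 1755 vV (getW 11 Data.vOrd) (getW 11 Data.vPos) = true := by decide +kernel

theorem fix0_ok : allN 12 (fun k => Nat.beq (actN k 0) 0) = true := by decide +kernel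

theorem noncomm_ok : Nat.beq (actN 0 (actN 1 3)) (actN 1 (actN 0 3)) = false := by decide +kernel

end Cfsg.Agent.Lib.RuRank3
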