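import Cfsg.Agent.Lib.RuRank3.Defs

/-! Kernel checks of the points. -/

set_option autoImplicit false
set_option maxRecDepth 100000

namespace Cfsg.Agent.Lib.RuRank3

open Cfsg.Agent.Lib.Computation (getW okPerm)
open Cfsg.Agent.Lib.RuPerm Code28

set_option maxHeartbeats 4000000

theorem okForm_true : okForm = true := by decide +kernel

theorem okPts_true : okInj 4060 pV (getW 12 Data.pOrd) (getW 12 Data.pPos) = true := by decide +kernel

/-- The neighbours of the first point are the points 1 to 1755. -/
theorem adj_zero_ok : allN 4060 (fun j => adj 0 j == (Nat.blt 0 j && Nat.blt j 1756)) = true := by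
  decide +kernel

theorem basis_ok : (Data.basis.all fun b => Nat.blt 0 b && Nat.blt b 1756) = true := by decide +kernel

/-- The first 22 automorphisms fix the first point. -/
theorem fix_ok : allN 22 (fun k => Nat.beq (getW 12 (autP k) 0) 0) = true := by decide +kernel


end Cfsg.Agent.Lib.RuRank3
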