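import Cfsg.Agent.Lib.RuRank3.Defs
import Cfsg.Agent.Lib.RuRank3.Classes

/-! Kernel checks on the unions of classes of the small groups. -/

set_option autoImplicit false
set_option maxRecDepth 100000
set_option maxHeartbeats 4000000

namespace Cfsg.Agent.Lib.RuRank3

open Cfsg.Agent.Lib.Computation (getW forceNat)

theorem five_ok : allN 256 (fun m => !(m.testBit (fLab Data.clS2 0)) ||
    !(Nat.beq (szM 1755 Data.clS2 m) 5)) = true := by decide +kernel

/-- The union of classes is the set of neighbours of the first neighbour, or is not a possible set. -/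
def lamB (m : ℕ) : Bool :=
  m.testBit (fLab Data.clU0 0) || forceNat (szM 1755 Data.clU0 m) fun s =>
    Nat.beq s 1754 || !(Nat.beq (Nat.mod (1755 * (1754 - s)) 2304) 0) ||
      allN 1755 fun i => m.testBit (fLab Data.clU0 i) == adjA 0 i

theorem lam_ok : allN 32 lamB = true := by decide +kernel

theorem w0_ok : allN 64 (fun m => !(Nat.beq (szM 2304 Data.clW0 m) 975) ||
    allN 2304 fun j => m.testBit (fLab Data.clW0 j) == adj 1756 (j + 1756)) = true := by decide +kernel

theorem adjA_zero_count : cntN 1755 (fun i => adjA 0 i) = 730 ∧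
    cntN 1755 (fun i => adj (i + 1) 1756) = 780 := by decide +kernel

end Cfsg.Agent.Lib.RuRank3
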