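import Cfsg.Agent.Lib.RuRank3.Defs

/-! The signatures of the non-neighbours are distinct. -/

set_option autoImplicit false
set_option maxRecDepth 100000

namespace Cfsg.Agent.Lib.RuRank3

open Cfsg.Agent.Lib.Computation (getW okPerm)
open Cfsg.Agent.Lib.RuPerm Code28

set_option maxHeartbeats 4000000

theorem sig_ok : okInj 2304 sig (getW 12 Data.sigOrd) (getW 12 Data.sigPos) = true := by decide +kernel

end Cfsg.Agent.Lib.RuRank3
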