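import Cfsg.Agent.Lib.RuRank3.SylowDefs

/-! Kernel checks of the hash table of the conjugates of the Sylow 5-subgroup. -/

set_option autoImplicit false
set_option maxRecDepth 100000
set_option maxHeartbeats 8000000

namespace Cfsg.Agent.Lib.RuRank3

open Cfsg.Agent.Lib.Computation (getW)

theorem rows_lo : allN 576 rowJ = true := by decide +kernel

theorem rows_hi : allN 576 (fun j => rowJ (j + 576)) = true := by decide +kernel

theorem hTab_inc : allN 14975 (fun r => Nat.blt (getW 48 Data.hTab r) (getW 48 Data.hTab (r + 1))) = true := by
  decide +kernel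

end Cfsg.Agent.Lib.RuRank3
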