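import Cfsg.Agent.Lib.RuRank3.SylowDefs

/-! Kernel checks of the sets invariant under the representatives. -/

set_option autoImplicit false
set_option maxRecDepth 100000
set_option maxHeartbeats 8000000

namespace Cfsg.Agent.Lib.RuRank3

theorem reps_ok : Data.reps.length = 102 ∧ Data.reps.all okRep = true := by decide +kernel

end Cfsg.Agent.Lib.RuRank3
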