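import Cfsg.Agent.Lib.RuRank3.SylowDefs

/-! Small kernel checks on the Sylow subgroups and their normalisers. -/

set_option autoImplicit false
set_option maxRecDepth 100000
set_option maxHeartbeats 8000000

namespace Cfsg.Agent.Lib.RuRank3

open Cfsg.Agent.Lib.Computation (getW)

theorem inv_ok : allN 14 (fun g => allN 1755 fun p =>
    Nat.blt (invN g p) 1755 && Nat.beq (actN g (invN g p)) p) = true := by decide +kernel

theorem cyc_ok : allN 1755 (fun p => Nat.blt (cycN p) 135 && Nat.blt (cRep (cycN p)) 1755 &&
    Nat.beq (powN 14 (cycK p) (cRep (cycN p))) p) = true := by decide +kernel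

theorem crep_ok : allN 135 (fun q => Nat.blt (cRep q) 1755 && Nat.beq (cycN (cRep q)) q) = true := by
  decide +kernel

theorem x_ok : allN 1755 (fun p => Nat.beq (powN 14 13 p) p &&
    Nat.beq (actN 15 (actN 14 p)) (powN 14 2 (actN 15 p))) = true ∧ Nat.beq (actN 14 0) 0 = false := by
  decide +kernel

theorem e_ok : allN 1755 (fun p => Nat.beq (powN 16 5 p) p && Nat.beq (powN 17 5 p) p &&
    Nat.beq (actN 16 (actN 17 p)) (actN 17 (actN 16 p))) = true := by decide +kernel

theorem reg_ok :
    allN 25 (fun c => allN 25 fun d => Nat.beq c d ||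
      !(Nat.beq (powN 16 (c / 5) (powN 17 (c % 5) Data.regPt))
        (powN 16 (d / 5) (powN 17 (d % 5) Data.regPt)))) = true := by decide +kernel

theorem norm_ok : allN 4 (fun t => allN 1755 fun p =>
    Nat.beq (actN (18 + t / 2) (actN (16 + t % 2) p))
      (powN 17 (Data.normExp.getD t (0, 0)).2 (powN 16 (Data.normExp.getD t (0, 0)).1
        (actN (18 + t / 2) p)))) = true := by decide +kernel

theorem key0_ok : Nat.beq Data.key0.length 30 = true ∧ Data.key0.Nodup ∧
    allN 4 (fun g => Data.key0.all fun p => Data.key0.elem (actN (16 + g) p)) = true ∧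
    (Data.key0.all fun p => Nat.blt p 1755) = true := by decide +kernel

theorem trip_ok : allN 2400 okTrip = true := by decide +kernel

end Cfsg.Agent.Lib.RuRank3
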