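import Cfsg.Agent.Lib.RuRank3.Base
import Cfsg.Agent.Lib.RuRank3.Points
import Cfsg.Agent.Lib.RuRank3.Autos

/-! The graph, its automorphisms and signatures, as checkable functions. -/

set_option autoImplicit false
set_option maxRecDepth 100000

namespace Cfsg.Agent.Lib.RuRank3

open Cfsg.Agent.Lib.Computation (getW okPerm)
open Cfsg.Agent.Lib.RuPerm Code28

/-- The code of a point. -/
def pV (i : ℕ) : ℕ := getW 28 Data.pTab i

/-- The code of the image of a point under the form. -/
def fV (i : ℕ) : ℕ := getW 28 Data.fTab i

/-- Adjacency: distinct and orthogonal. -/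
def adj (i j : ℕ) : Bool := !(Nat.beq i j) && !(dotB (fV i) (pV j))

/-- Adjacency of the neighbours of the first point, numbered from 0. -/
def adjA (i j : ℕ) : Bool := adj (i + 1) (j + 1)

/-- The images under the form are correct and the form is symmetric. -/
def okForm : Bool :=
  okTr Data.formC Data.formC &&
    allN 4060 fun i => Nat.beq (fV i) (Code28.apply Data.formC (pV i))

/-- The matrix of an automorphism. -/
def autC (k : ℕ) : ℕ := Data.autoC.getD k 0

/-- The permutation code of an automorphism. -/
def autP (k : ℕ) : ℕ := Data.autoP.getD k 0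

/-- An automorphism: an isometry carrying points to points. -/
def okAuto (k : ℕ) : Bool :=
  okPerm 4060 12 (autP k) &&
    (allN 4060 fun i => Nat.beq (Code28.apply (autC k) (pV i)) (pV (getW 12 (autP k) i))) &&
    okTr (autC k) (Data.autoT.getD k 0) &&
    Nat.beq (Code28.mul (Code28.mul (Data.autoT.getD k 0) Data.formC) (autC k)) Data.formC

/-- The signature of a non-neighbour: its adjacencies to the basis. -/
def sig (j : ℕ) : ℕ :=
  Data.basis.foldr (fun b acc => (bif adj (j + 1756) b then 1 else 0) + 2 * acc) 0

/-- An automorphism on the neighbours, as a map of numbers. -/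
def actN (k i : ℕ) : ℕ := getW 12 (autP k) (i + 1) - 1


end Cfsg.Agent.Lib.RuRank3
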