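import Cfsg.Agent.Lib.RuRank3.Ru
import Cfsg.Agent.Lib.RuRank3.CheckF4
import Cfsg.Agent.Lib.TwistedF4Two.Tits

/-! The Ree group `²F₄(2)` is the automorphism group of the graph on 1755 points; a Sylow 2-subgroup. -/

set_option autoImplicit false
set_option maxRecDepth 100000

namespace Cfsg.Agent.Lib.RuRank3

open Cfsg.Lie
open Cfsg.Agent.Lib.Computation (getW)
open Cfsg.Agent.Lib.TwistedF4Two Mat Bruhat
open scoped MatrixGroups commutatorElement

attribute [local irreducible] getW actN vV vmul code fLab szM adjA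

local notation "GL52" => GL chevF4.Idx (ZMod 2)

/-- A matrix permutes the vectors by a permutation. -/
def VecPerm (g : GL52) (σ : Equiv.Perm (Fin 1755)) : Prop :=
  ∀ i : Fin 1755, Matrix.vecMul (bV (vV (σ i).1)) (Main.T52 g) = bV (vV i.1)

theorem vV_lt (i : ℕ) : vV i < 2 ^ 52 := by
  unfold vV
  rw [Computation.getW_eq]
  exact Nat.mod_lt _ (Nat.two_pow_pos 52)

theorem vecPerm_unique {g : GL52} {σ τ : Equiv.Perm (Fin 1755)} (h1 : VecPerm g σ) (h2 : VecPerm g τ) :
    σ = τ := by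
  refine Equiv.ext fun i => ?_
  have h := congrArg (fun w => Matrix.vecMul w (Main.T52 g⁻¹)) ((h1 i).trans (h2 i).symm)
  simp only [Matrix.vecMul_vecMul, ← Main.T52_mul, mul_inv_cancel, Main.T52_one, Matrix.vecMul_one] at h
  exact Fin.ext (okInj_spec vV_ok (σ i).2 (τ i).2 (Main.bV_inj (vV_lt _) (vV_lt _) h))

theorem vecPerm_mul {g h : GL52} {σ τ : Equiv.Perm (Fin 1755)} (h1 : VecPerm g σ) (h2 : VecPerm h τ) :
    VecPerm (g * h) (σ * τ) := fun i => by
  rw [Main.T52_mul, ← Matrix.vecMul_vecMul, Equiv.Perm.mul_apply, h1 (τ i), h2 i]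

theorem vecPerm_inv {g : GL52} {σ : Equiv.Perm (Fin 1755)} (h : VecPerm g σ) : VecPerm g⁻¹ σ⁻¹ := fun i => by
  have e := h (σ⁻¹ i)
  rw [show σ (σ⁻¹ i) = i from σ.apply_symm_apply i] at e
  rw [← e, Matrix.vecMul_vecMul, ← Main.T52_mul, mul_inv_cancel, Main.T52_one, Matrix.vecMul_one]

theorem okVec_true {k : ℕ} (hk : k < 14) : okVec k = true := by
  rcases Nat.lt_or_ge k 7 with h | h
  · exact allN_iff.1 okVec_lo k h
  · obtain ⟨m, rfl⟩ := Nat.exists_eq_add_of_le' h
    exact allN_iff.1 okVec_hi m (by omega)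

theorem vecPerm_gen {k : ℕ} (hk : k < 14) : VecPerm (el (gWord k)) (uP k)⁻¹ := by
  intro i
  have h := okVec_true hk
  rw [okVec, Bool.and_eq_true, Computation.forceNat_eq, allN_iff] at h
  have e := Nat.eq_of_beq_eq_true (h.2 ((uP k)⁻¹ i).1 ((uP k)⁻¹ i).2)
  rw [Main.T52_el h.1, ← vmul_spec, e, ← uP_val (by omega)]
  exact congrArg (fun j : Fin 1755 => bV (vV j.1)) ((uP k).apply_symm_apply i)

/-- The matrices that permute the vectors by an automorphism. -/
def permGrp : Subgroup GL52 where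
  carrier := {g | ∃ σ ∈ UA, VecPerm g σ}
  mul_mem' := fun ⟨σ, hσ, e⟩ ⟨τ, hτ, e'⟩ => ⟨σ * τ, mul_mem hσ hτ, vecPerm_mul e e'⟩
  one_mem' := ⟨1, one_mem _, fun i => by rw [Main.T52_one, Matrix.vecMul_one]; rfl⟩
  inv_mem' := fun ⟨σ, hσ, e⟩ => ⟨σ⁻¹, inv_mem hσ, vecPerm_inv e⟩

theorem hE_perm {k : ℕ} (hk : k < 12) : VecPerm (hE k) (uP k)⁻¹ := by
  have h := vecPerm_gen (k := k) (by omega)
  rwa [gWord, show Nat.blt k 12 = true by rw [Nat.blt_eq]; exact hk] at h

theorem sE_perm : ∀ i : ℕ, Main.sE i ∈ permGrp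
  | 0 => ⟨_, inv_mem (uP_mem 12), vecPerm_gen (k := 12) (by norm_num)⟩
  | n + 1 => ⟨_, inv_mem (uP_mem 13), vecPerm_gen (k := 13) (by norm_num)⟩

theorem G2F_le : G2F ≤ permGrp := by
  intro g hg
  obtain ⟨u, hu, k, -, v, hv, rfl⟩ := Main.mem_M16 hg
  have hU : U12 ≤ permGrp := (Subgroup.closure_le _).2 fun x ⟨j, hj, e⟩ =>
    e ▸ ⟨_, inv_mem (uP_mem j), hE_perm (List.mem_range.1 hj)⟩
  refine mul_mem (mul_mem (hU hu) ?_) (hU hv)
  show el (sword (Data.wWords.getD k [])) ∈ permGrp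
  generalize Data.wWords.getD k [] = L
  induction L with
  | nil => exact one_mem _
  | cons i L ih =>
    rw [show sword (i :: L) = sw i ++ sword L from rfl, el_append]
    exact mul_mem (sE_perm i) ih

/-- The permutation of the vectors given by an element of the Ree group. -/
noncomputable def phiF : ↥G2F →* UA :=
  MonoidHom.mk' (fun g => ⟨_, (G2F_le g.2).choose_spec.1⟩) fun g h =>
    Subtype.ext (vecPerm_unique (G2F_le (g * h).2).choose_spec.2
      (vecPerm_mul (G2F_le g.2).choose_spec.2 (G2F_le h.2).choose_spec.2))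

theorem phiF_eq {g : ↥G2F} {σ : Equiv.Perm (Fin 1755)} (h : VecPerm g σ) : (phiF g).1 = σ :=
  vecPerm_unique (G2F_le g.2).choose_spec.2 h

/-- A root element of the unipotent subgroup. -/
noncomputable def hG (k : Fin 12) : ↥G2F := ⟨hE k, Main.U12_le (hE_mem (List.mem_range.2 k.2))⟩

theorem phiF_hG (k : Fin 12) : (phiF (hG k)).1 = (uP k.1)⁻¹ := phiF_eq (hE_perm k.2)

theorem phiF_injective : Function.Injective phiF := by
  rw [← MonoidHom.ker_eq_bot_iff]
  by_contra hne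
  have hc := Tits.commutator_le phiF.normal_ker hne
  have hmem : ⁅hG 0, hG 1⁆ ∈ phiF.ker :=
    hc (Subgroup.commutator_mem_commutator (Subgroup.mem_top _) (Subgroup.mem_top _))
  rw [MonoidHom.mem_ker, map_commutatorElement, commutatorElement_eq_one_iff_mul_comm] at hmem
  have e0 := congrArg Subtype.val hmem
  rw [Subgroup.coe_mul, Subgroup.coe_mul, phiF_hG, phiF_hG, ← mul_inv_rev, ← mul_inv_rev, inv_inj] at e0
  have e1 := congrArg Fin.val (Equiv.ext_iff.1 e0 (3 : Fin 1755))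
  rw [Equiv.Perm.mul_apply, Equiv.Perm.mul_apply, uP_val (by decide), uP_val (by decide),
    uP_val (by decide), uP_val (by decide)] at e1
  have h := noncomm_ok
  rw [beq_eq_decide, decide_eq_false_iff_not] at h
  exact h e1.symm

theorem phiF_bijective : Function.Bijective phiF :=
  (Nat.bijective_iff_injective_and_card phiF).2
    ⟨phiF_injective, Parity.card_twoF4.trans card_bounds.2.symm⟩

/-- The automorphism group of the graph on 1755 points as the Ree group. -/
noncomputable def equivF4 : ↥(twistedF4 (ZMod 2) 1) ≃* UA := MulEquiv.ofBijective phiF phiF_bijective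

/-- A Sylow 2-subgroup of the automorphisms of the graph on 1755 points. -/
noncomputable def S2 : Subgroup UA := (U12.subgroupOf G2F).map phiF

theorem card_S2 : Nat.card S2 = 4096 := by
  rw [S2, Subgroup.card_map_of_injective phiF_injective,
    Nat.card_congr (Subgroup.subgroupOfEquivOfLe Main.U12_le).toEquiv, Parity.card_U12]

theorem uP_mem_S2 {k : ℕ} (hk : k < 12) : (⟨uP k, uP_mem k⟩ : UA) ∈ S2 := by
  refine Subgroup.mem_map.2 ⟨(hG ⟨k, hk⟩)⁻¹, ?_, Subtype.ext ?_⟩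
  · exact inv_mem (Subgroup.mem_subgroupOf.2 (hE_mem (List.mem_range.2 hk)))
  · rw [map_inv, Subgroup.coe_inv, phiF_hG, inv_inv]

theorem S2_fix {g : UA} (hg : g ∈ S2) : g.1 0 = 0 := by
  obtain ⟨x, hx, rfl⟩ := Subgroup.mem_map.1 hg
  obtain ⟨x, hxG⟩ := x
  rw [Subgroup.mem_subgroupOf] at hx
  change x ∈ U12 at hx
  clear hg
  induction hx using Subgroup.closure_induction with
  | mem y hy =>
    obtain ⟨k, hk, rfl⟩ := hy
    have hk' := List.mem_range.1 hk
    rw [phiF_eq (g := ⟨hE k, hxG⟩) (hE_perm hk'), Equiv.Perm.inv_def, Equiv.symm_apply_eq]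
    refine Fin.ext ?_
    rw [uP_val (by omega)]
    exact (Nat.eq_of_beq_eq_true (allN_iff.1 fix0_ok k hk')).symm
  | one => rw [show (⟨1, hxG⟩ : ↥G2F) = 1 from rfl, map_one]; rfl
  | mul y z hy hz ihy ihz =>
    have hy' := Main.U12_le hy
    have hz' := Main.U12_le hz
    rw [show (⟨y * z, hxG⟩ : ↥G2F) = ⟨y, hy'⟩ * ⟨z, hz'⟩ from rfl, map_mul, Subgroup.coe_mul,
      Equiv.Perm.mul_apply, ihz hz', ihy hy']
  | inv y hy ih =>
    have hy' := Main.U12_le hy
    rw [show (⟨y⁻¹, hxG⟩ : ↥G2F) = ⟨y, hy'⟩⁻¹ from rfl, map_inv, Subgroup.coe_inv, Equiv.Perm.inv_def,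
      Equiv.symm_apply_eq, ih hy']

end Cfsg.Agent.Lib.RuRank3
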