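import Cfsg.Agent.Lib.RuRank3.CheckPoints
import Cfsg.Agent.Lib.RuRank3.CheckSig
import Cfsg.Agent.Lib.RuRank3.CheckAuto0
import Cfsg.Agent.Lib.RuRank3.CheckAuto1
import Cfsg.Agent.Lib.RuRank3.CheckAuto2
import Mathlib.GroupTheory.GroupAction.Defs

/-!
The graph on 4060 coded points of the 28-dimensional module, its automorphisms, and the restriction of the
stabiliser of the first point to its 1755 neighbours.
-/

set_option autoImplicit false
set_option maxRecDepth 100000

namespace Cfsg.Agent.Lib.RuRank3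

open Cfsg.Agent.Lib.Computation (getW getW_eq okPerm decodeP decodeP_apply okPerm_lt)
open Cfsg.Agent.Lib.RuPerm Code28

attribute [local irreducible] getW dotB Code28.apply Code28.mul autP autC sig

theorem pV_lt (i : ℕ) : pV i < 2 ^ 28 := by
  rw [pV, getW_eq]; exact Nat.mod_lt _ (Nat.two_pow_pos 28)

theorem fV_lt (i : ℕ) : fV i < 2 ^ 28 := by
  rw [fV, getW_eq]; exact Nat.mod_lt _ (Nat.two_pow_pos 28)

theorem pV_inj {i j : ℕ} (hi : i < 4060) (hj : j < 4060) (h : pV i = pV j) : i = j :=
  okInj_spec okPts_true hi hj h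

theorem decV_fV {i : ℕ} (hi : i < 4060) : decV (fV i) = Matrix.mulVec (dec Data.formC) (decV (pV i)) := by
  have h := okForm_true
  rw [okForm, Bool.and_eq_true, allN_iff] at h
  rw [Nat.eq_of_beq_eq_true (h.2 i hi), decV_apply]

theorem form_symm : (dec Data.formC).transpose = dec Data.formC := by
  have h := okForm_true
  rw [okForm, Bool.and_eq_true] at h
  exact (dec_tr h.1).symm

theorem bit_dot {i : ℕ} (hi : i < 4060) (j : ℕ) : bit (dotB (fV i) (pV j)) =
    dotProduct (Matrix.mulVec (dec Data.formC) (decV (pV i))) (decV (pV j)) := by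
  rw [bit_dotB (fV_lt i), decV_fV hi]

theorem beq_eq_decide (i j : ℕ) : Nat.beq i j = decide (i = j) := by
  by_cases h : i = j
  · subst h; rw [decide_eq_true rfl]; exact Nat.beq_refl i
  · rw [decide_eq_false h]; exact Bool.eq_false_iff.2 fun e => h (Nat.eq_of_beq_eq_true e)

theorem adj_self (i : ℕ) : adj i i = false := by simp [adj]

theorem adj_symm {i j : ℕ} (hi : i < 4060) (hj : j < 4060) : adj i j = adj j i := by
  have e : dotB (fV i) (pV j) = dotB (fV j) (pV i) := by
    apply bit_injective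
    rw [bit_dot hi, bit_dot hj, dotProduct_comm, Matrix.dotProduct_mulVec, ← form_symm, Matrix.vecMul_transpose,
      form_symm]
  rw [adj, adj, e, beq_eq_decide, beq_eq_decide, decide_eq_decide.2 (eq_comm)]

/-! ### Automorphisms -/

/-- The automorphisms of a relation on `Fin n`. -/
def autGrp (n : ℕ) (r : ℕ → ℕ → Bool) : Subgroup (Equiv.Perm (Fin n)) where
  carrier := {σ | ∀ i j : Fin n, r (σ i).1 (σ j).1 = r i.1 j.1}
  mul_mem' {σ τ} hσ hτ i j := (hσ (τ i) (τ j)).trans (hτ i j)
  one_mem' _ _ := rfl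
  inv_mem' {σ} hσ i j := by
    have h := hσ (σ⁻¹ i) (σ⁻¹ j)
    rw [show σ (σ⁻¹ i) = i from σ.apply_symm_apply i, show σ (σ⁻¹ j) = j from σ.apply_symm_apply j] at h
    exact h.symm

theorem mem_autGrp {n : ℕ} {r : ℕ → ℕ → Bool} {σ : Equiv.Perm (Fin n)} :
    σ ∈ autGrp n r ↔ ∀ i j : Fin n, r (σ i).1 (σ j).1 = r i.1 j.1 := Iff.rfl

/-- The automorphisms of the graph. -/
abbrev GA : Subgroup (Equiv.Perm (Fin 4060)) := autGrp 4060 adj

/-- The automorphisms of the graph on the neighbours of the first point. -/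
abbrev UA : Subgroup (Equiv.Perm (Fin 1755)) := autGrp 1755 adjA

theorem okAuto_true {k : ℕ} (hk : k < 24) : okAuto k = true := by
  rcases Nat.lt_or_ge k 8 with h | h
  · exact allN_iff.1 okAuto0 k h
  rcases Nat.lt_or_ge k 16 with h' | h'
  · obtain ⟨m, rfl⟩ := Nat.exists_eq_add_of_le' h
    exact allN_iff.1 okAuto1 m (by omega)
  · obtain ⟨m, rfl⟩ := Nat.exists_eq_add_of_le' h'
    exact allN_iff.1 okAuto2 m (by omega)

/-- An automorphism as a permutation. -/
noncomputable def aP (k : ℕ) : Equiv.Perm (Fin 4060) := decodeP 4060 12 (autP k)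

theorem aP_val {k : ℕ} (hk : k < 24) (i : Fin 4060) : (aP k i : ℕ) = getW 12 (autP k) i.1 := by
  have h := okAuto_true hk
  simp only [okAuto, Bool.and_eq_true] at h
  exact decodeP_apply h.1.1.1 i

theorem aP_pV {k : ℕ} (hk : k < 24) (i : Fin 4060) : Code28.apply (autC k) (pV i.1) = pV (aP k i).1 := by
  have h := okAuto_true hk
  simp only [okAuto, Bool.and_eq_true, allN_iff] at h
  rw [aP_val hk, Nat.eq_of_beq_eq_true (h.1.1.2 i.1 i.2)]

theorem aP_mem {k : ℕ} (hk : k < 24) : aP k ∈ GA := by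
  intro i j
  have h := okAuto_true hk
  simp only [okAuto, Bool.and_eq_true] at h
  have hT := dec_tr h.1.2
  have hF : (dec (autC k)).transpose * dec Data.formC * dec (autC k) = dec Data.formC := by
    rw [← hT, ← dec_mul, ← dec_mul, Nat.eq_of_beq_eq_true h.2]
  have e : dotB (fV (aP k i).1) (pV (aP k j).1) = dotB (fV i.1) (pV j.1) := by
    apply bit_injective
    rw [bit_dot (aP k i).2, bit_dot i.2, ← aP_pV hk i, ← aP_pV hk j, decV_apply, decV_apply,
      Matrix.dotProduct_mulVec, ← Matrix.mulVec_transpose, Matrix.mulVec_mulVec, Matrix.mulVec_mulVec,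
      hF]
  unfold adj
  rw [e, beq_eq_decide, beq_eq_decide, decide_eq_decide.2 ((Fin.val_inj.trans (aP k).apply_eq_iff_eq).trans
    Fin.val_inj.symm)]

/-! ### The neighbours of the first point -/

theorem adj_zero {j : ℕ} (hj : j < 4060) : adj 0 j = true ↔ 1 ≤ j ∧ j ≤ 1755 := by
  rw [beq_iff_eq.1 (allN_iff.1 adj_zero_ok j hj), Bool.and_eq_true, Nat.blt_eq, Nat.blt_eq]
  omega

theorem foldr_congr (f g : ℕ → ℕ → ℕ) : ∀ (L : List ℕ), (∀ b ∈ L, ∀ acc, f b acc = g b acc) →
    L.foldr f 0 = L.foldr g 0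
  | [], _ => rfl
  | b :: L, h => by
    rw [List.foldr_cons, List.foldr_cons, foldr_congr f g L fun x hx => h x (List.mem_cons_of_mem _ hx),
      h b List.mem_cons_self]

theorem sig_def (j : ℕ) : sig j =
    Data.basis.foldr (fun b acc => (bif adj (j + 1756) b then 1 else 0) + 2 * acc) 0 := by
  rw [sig]

theorem sig_congr {j j' : ℕ} (h : ∀ b ∈ Data.basis, adj (j + 1756) b = adj (j' + 1756) b) :
    sig j = sig j' := by
  rw [sig_def, sig_def]
  exact foldr_congr _ _ _ fun b hb acc => by rw [h b hb]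

/-- The stabiliser of the first point. -/
abbrev GA0 : Subgroup GA := MulAction.stabilizer GA (0 : Fin 4060)

theorem stab_apply (g : GA0) : (g : GA).1 0 = 0 := g.2

/-- A neighbour of the first point. -/
def ptA (i : Fin 1755) : Fin 4060 := ⟨i.1 + 1, by omega⟩

theorem image_mem (g : GA0) (i : Fin 1755) :
    1 ≤ ((g : GA).1 (ptA i)).1 ∧ ((g : GA).1 (ptA i)).1 ≤ 1755 := by
  rw [← adj_zero ((g : GA).1 (ptA i)).2]
  have h := (g : GA).2 0 (ptA i)
  rw [stab_apply] at h
  exact h.trans ((adj_zero (ptA i).2).2 ⟨Nat.le_add_left 1 _, i.2⟩)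

/-- The action on the neighbours. -/
def actA (g : GA0) (i : Fin 1755) : Fin 1755 :=
  ⟨((g : GA).1 (ptA i)).1 - 1, by have := image_mem g i; omega⟩

theorem ptA_actA (g : GA0) (i : Fin 1755) : ptA (actA g i) = (g : GA).1 (ptA i) :=
  Fin.ext (Nat.sub_add_cancel (image_mem g i).1)

theorem ptA_inj {i j : Fin 1755} (h : ptA i = ptA j) : i = j :=
  Fin.ext (Nat.succ_injective (Fin.val_eq_of_eq h))

theorem actA_mul (g h : GA0) (i : Fin 1755) : actA (g * h) i = actA g (actA h i) :=
  ptA_inj (by rw [ptA_actA, ptA_actA, ptA_actA]; rfl)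

theorem actA_one (i : Fin 1755) : actA 1 i = i := ptA_inj (by rw [ptA_actA]; rfl)

/-- The permutation of the neighbours. -/
def resP (g : GA0) : Equiv.Perm (Fin 1755) where
  toFun := actA g
  invFun := actA g⁻¹
  left_inv i := by rw [← actA_mul, inv_mul_cancel, actA_one]
  right_inv i := by rw [← actA_mul, mul_inv_cancel, actA_one]

theorem resP_mem (g : GA0) : resP g ∈ UA := fun i j => by
  show adj (ptA (actA g i)).1 (ptA (actA g j)).1 = adj (ptA i).1 (ptA j).1
  rw [ptA_actA, ptA_actA]
  exact (g : GA).2 _ _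

/-- Restriction to the neighbours of the first point. -/
def res : GA0 →* UA where
  toFun g := ⟨resP g, resP_mem g⟩
  map_one' := Subtype.ext (Equiv.ext actA_one)
  map_mul' g h := Subtype.ext (Equiv.ext (actA_mul g h))

theorem ptA_res (g : GA0) (i : Fin 1755) : ptA ((res g).1 i) = (g : GA).1 (ptA i) := ptA_actA g i

theorem res_injective : Function.Injective res := by
  refine (injective_iff_map_eq_one res).2 fun g hg => ?_
  have hA : ∀ i, (g : GA).1 (ptA i) = ptA i := fun i => by
    rw [← ptA_res, hg]; rfl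
  have hp : ∀ j : Fin 4060, (g : GA).1 j = j := by
    intro j
    rcases Nat.eq_zero_or_pos j.1 with h0 | hpos
    · rw [show j = 0 from Fin.ext h0]; exact stab_apply g
    rcases Nat.lt_or_ge j.1 1756 with h1 | h1
    · have e : j = ptA ⟨j.1 - 1, by omega⟩ := Fin.ext (show j.1 = j.1 - 1 + 1 by omega)
      rw [e]; exact hA _
    have hne : 1756 ≤ ((g : GA).1 j).1 := by
      by_contra hlt
      have hj0 : ((g : GA).1 j).1 ≠ 0 := fun e => by
        have e' := (g : GA).1.injective ((Fin.ext e : (g : GA).1 j = 0).trans (stab_apply g).symm)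
        rw [e'] at hpos
        exact absurd hpos (by simp)
      have h := (g : GA).2 0 j
      rw [stab_apply] at h
      have := (adj_zero j.2).1 (h.symm.trans ((adj_zero ((g : GA).1 j).2).2 ⟨by omega, by omega⟩))
      omega
    have key : ∀ b ∈ Data.basis, adj ((g : GA).1 j).1 b = adj j.1 b := by
      intro b hb
      have hb' := List.all_eq_true.1 basis_ok b hb
      simp only [Bool.and_eq_true, Nat.blt_eq] at hb'
      have e := (g : GA).2 j (ptA ⟨b - 1, by omega⟩)
      rw [hA] at e
      rwa [show (ptA ⟨b - 1, by omega⟩ : Fin 4060).1 = b from (show b - 1 + 1 = b by omega)] at e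
    have := okInj_spec sig_ok (i := ((g : GA).1 j).1 - 1756) (j := j.1 - 1756) (by omega) (by omega)
      (sig_congr fun b hb => by
        rw [Nat.sub_add_cancel hne, Nat.sub_add_cancel h1]; exact key b hb)
    exact Fin.ext (by omega)
  exact Subtype.ext (Subtype.ext (Equiv.ext hp))

theorem aP_zero {k : ℕ} (hk : k < 22) : aP k 0 = 0 :=
  Fin.ext ((aP_val (by omega) 0).trans (Nat.eq_of_beq_eq_true (allN_iff.1 fix_ok k hk)))

/-- An automorphism fixing the first point. -/
noncomputable def gA (k : Fin 22) : GA0 :=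
  ⟨⟨aP k.1, aP_mem (lt_trans k.2 (by norm_num))⟩, aP_zero k.2⟩

/-- The restriction of an automorphism. -/
noncomputable def uA (k : Fin 22) : UA := res (gA k)

theorem uA_val (k : Fin 22) (i : Fin 1755) : ((uA k).1 i : ℕ) = actN k.1 i.1 := by
  show (aP k.1 (ptA i)).1 - 1 = _
  rw [aP_val (lt_trans k.2 (by norm_num))]
  rfl

end Cfsg.Agent.Lib.RuRank3
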