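import Cfsg.Agent.Lib.RuRank3.Sets
import Cfsg.Agent.Lib.RuRank3.CheckSylowA
import Cfsg.Agent.Lib.RuRank3.CheckSylowB
import Cfsg.Agent.Lib.RuRank3.CheckSylowC

/-!
A set of 780 neighbours invariant under a subgroup of order 15600 is the set of neighbours of a non-neighbour.
-/

set_option autoImplicit false
set_option maxRecDepth 100000

namespace Cfsg.Agent.Lib.RuRank3

open Cfsg.Agent.Lib.Computation (getW forceNat forceNat_eq)
open scoped Pointwise

attribute [local irreducible] getW actN adj cntN invN cycN cycK cRep hashL rLab rDep rGen rPar tripVal tripC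
  codeR codeA repW

/-- An automorphism of the neighbours. -/
noncomputable def uE (k : ℕ) : UA := ⟨uP k, uP_mem k⟩

theorem uE_val {k : ℕ} (hk : k < 22) (p : Fin 1755) : ((uE k).1 p).1 = actN k p.1 := uP_val hk p

theorem powN_val {k : ℕ} (hk : k < 22) (p : Fin 1755) : ∀ e : ℕ, ((uE k ^ e : UA).1 p).1 = powN k e p.1
  | 0 => by rw [pow_zero]; rfl
  | e + 1 => by
    rw [pow_succ', powN, forceNat_eq, ← powN_val hk p e, Subgroup.coe_mul, Equiv.Perm.mul_apply, uE_val hk]

theorem powN_succ' (k p : ℕ) : ∀ e, powN k e (actN k p) = powN k (e + 1) p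
  | 0 => by simp [powN, forceNat_eq]
  | e + 1 => by
    rw [powN, forceNat_eq, powN_succ' k p e]
    conv_rhs => rw [powN, forceNat_eq]

theorem UA_ext {g h : UA} (H : ∀ p : Fin 1755, (g.1 p).1 = (h.1 p).1) : g = h :=
  Subtype.ext (Equiv.ext fun p => Fin.ext (H p))

/-- The product of a word of automorphisms, the first letter first. -/
noncomputable def rP : List ℕ → UA
  | [] => 1
  | g :: w => rP w * uE g

theorem rFn_val : ∀ {w : List ℕ}, (∀ g ∈ w, g < 14) → ∀ p : Fin 1755, ((rP w).1 p).1 = rFn w p.1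
  | [], _, _ => rfl
  | g :: w, h, p => by
    rw [rP, Subgroup.coe_mul, Equiv.Perm.mul_apply, rFn, forceNat_eq,
      rFn_val (fun x hx => h x (List.mem_cons_of_mem _ hx)), uE_val (by have := h g List.mem_cons_self; omega)]

theorem rInv_val : ∀ {w : List ℕ}, (∀ g ∈ w, g < 14) → ∀ p : Fin 1755, (((rP w)⁻¹ : UA).1 p).1 = rInv w p.1
  | [], _, _ => by rw [rP, inv_one]; rfl
  | g :: w, h, p => by
    have hg := h g List.mem_cons_self
    rw [rP, mul_inv_rev, Subgroup.coe_mul, Equiv.Perm.mul_apply, rInv, forceNat_eq,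
      ← rInv_val (fun x hx => h x (List.mem_cons_of_mem _ hx)) p]
    generalize ((rP w)⁻¹ : UA).1 p = q
    have hc := allN_iff.1 (allN_iff.1 inv_ok g hg) q.1 q.2
    rw [Bool.and_eq_true, Nat.blt_eq] at hc
    have e : (uE g).1 ⟨invN g q.1, hc.1⟩ = q :=
      Fin.ext ((uE_val (by omega) _).trans (Nat.eq_of_beq_eq_true hc.2))
    have e' : ((uE g)⁻¹ : UA).1 q = ⟨invN g q.1, hc.1⟩ := by
      rw [Subgroup.coe_inv, Equiv.Perm.inv_def, Equiv.symm_apply_eq]
      exact e.symm
    rw [e']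

theorem erFn_val {w : List ℕ} (hw : ∀ g ∈ w, g < 14) {g : ℕ} (hg : g < 2) (p : Fin 1755) :
    ((rP w * uE (16 + g) * (rP w)⁻¹ : UA).1 p).1 = erFn w g p.1 := by
  rw [erFn, forceNat_eq, forceNat_eq, Subgroup.coe_mul, Subgroup.coe_mul, Equiv.Perm.mul_apply,
    Equiv.Perm.mul_apply, rFn_val hw, uE_val (by omega), rInv_val hw]

/-! ### The Sylow 5-subgroup and its normaliser -/

theorem e_facts : uE 16 ^ 5 = 1 ∧ uE 17 ^ 5 = 1 ∧ Commute (uE 16) (uE 17) := by
  have h := fun p : Fin 1755 => allN_iff.1 e_ok p.1 p.2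
  simp only [Bool.and_eq_true] at h
  refine ⟨UA_ext fun p => ?_, UA_ext fun p => ?_, UA_ext fun p => ?_⟩
  · rw [powN_val (by norm_num), Nat.eq_of_beq_eq_true (h p).1.1]; rfl
  · rw [powN_val (by norm_num), Nat.eq_of_beq_eq_true (h p).1.2]; rfl
  · rw [Subgroup.coe_mul, Subgroup.coe_mul, Equiv.Perm.mul_apply, Equiv.Perm.mul_apply, uE_val (by norm_num),
      uE_val (by norm_num), uE_val (by norm_num), uE_val (by norm_num), Nat.eq_of_beq_eq_true (h p).2]

/-- The Sylow 5-subgroup. -/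
noncomputable def E0 : Subgroup UA where
  carrier := {g | ∃ a b : ℕ, g = uE 16 ^ a * uE 17 ^ b}
  mul_mem' := fun ⟨a, b, ha⟩ ⟨c, d, hc⟩ => ⟨a + c, b + d, by
    rw [ha, hc, pow_add, pow_add, mul_assoc, ← mul_assoc (uE 17 ^ b),
      ← (e_facts.2.2.pow_pow c b).eq, mul_assoc, ← mul_assoc]⟩
  one_mem' := ⟨0, 0, by simp⟩
  inv_mem' := fun ⟨a, b, ha⟩ => ⟨4 * a, 4 * b, by
    rw [ha, inv_eq_iff_mul_eq_one, mul_assoc, ← mul_assoc (uE 17 ^ b),
      ← (e_facts.2.2.pow_pow (4 * a) b).eq, mul_assoc, ← mul_assoc, ← pow_add, ← pow_add,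
      show a + 4 * a = 5 * a by ring, show b + 4 * b = 5 * b by ring, pow_mul, pow_mul, e_facts.1,
      e_facts.2.1, one_pow, one_pow, one_mul]⟩

theorem uE16_mem : uE 16 ∈ E0 := ⟨1, 0, by simp⟩

theorem uE17_mem : uE 17 ∈ E0 := ⟨0, 1, by simp⟩

theorem card_E0 : Nat.card E0 = 25 := by
  let f : Fin 25 → E0 := fun c => ⟨uE 16 ^ (c.1 / 5) * uE 17 ^ (c.1 % 5), _, _, rfl⟩
  have hreg : ∀ c : Fin 25, (((f c : E0) : UA).1 (Fin.ofNat 1755 Data.regPt)).1 =
      powN 16 (c.1 / 5) (powN 17 (c.1 % 5) Data.regPt) := fun c => by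
    rw [Subgroup.coe_mul, Equiv.Perm.mul_apply, powN_val (by norm_num), powN_val (by norm_num)]
    rfl
  have hb : Function.Bijective f := by
    refine ⟨fun c d e => ?_, fun g => ?_⟩
    · by_contra hne
      have h := allN_iff.1 (allN_iff.1 reg_ok c.1 c.2) d.1 d.2
      rw [← hreg c, ← hreg d, e, Bool.or_eq_true, Bool.not_eq_true'] at h
      rcases h with h | h
      · exact hne (Fin.ext (Nat.eq_of_beq_eq_true h))
      · simp [beq_eq_decide] at h
    · obtain ⟨a, b, hab⟩ := g.2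
      refine ⟨⟨5 * (a % 5) + b % 5, by omega⟩, Subtype.ext ?_⟩
      show uE 16 ^ ((5 * (a % 5) + b % 5) / 5) * uE 17 ^ ((5 * (a % 5) + b % 5) % 5) = g.1
      rw [hab, pow_eq_pow_mod a e_facts.1, pow_eq_pow_mod b e_facts.2.1]
      congr 2 <;> omega
  rw [← Nat.card_eq_of_bijective f hb, Nat.card_fin]

/-- The 30 points. -/
def key0F : List (Fin 1755) := Data.key0.map (Fin.ofNat 1755)

/-- The set of the 30 points. -/
def K0 : Finset (Fin 1755) := key0F.toFinset

/-- The group stabilising the set. -/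
noncomputable def NK : Subgroup UA := Subgroup.closure {uE 16, uE 17, uE 18, uE 19}

theorem key0F_val : key0F.map Fin.val = Data.key0 := by
  rw [key0F, List.map_map]
  conv_rhs => rw [← List.map_id Data.key0]
  refine List.map_congr_left fun p hp => ?_
  have := List.all_eq_true.1 key0_ok.2.2.2 p hp
  rw [Nat.blt_eq] at this
  exact Nat.mod_eq_of_lt this

theorem key0F_nodup : key0F.Nodup := by
  have := key0_ok.2.1
  rw [← key0F_val] at this
  exact this.of_map _

theorem gen_stab {g : ℕ} (hg : g < 4) : uE (16 + g) • K0 = K0 := by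
  refine Finset.eq_of_subset_of_card_le ?_ (le_of_eq (Finset.card_smul_finset _ _).symm)
  intro y hy
  obtain ⟨p, hp, rfl⟩ := Finset.mem_smul_finset.1 hy
  rw [K0, List.mem_toFinset] at hp ⊢
  have hp' : p.1 ∈ Data.key0 := key0F_val ▸ List.mem_map.2 ⟨p, hp, rfl⟩
  have h := List.all_eq_true.1 (allN_iff.1 key0_ok.2.2.1 g hg) p.1 hp'
  rw [List.elem_iff, ← key0F_val, List.mem_map] at h
  obtain ⟨q, hq, e⟩ := h
  rwa [show uE (16 + g) • p = q from Fin.ext ((uE_val (by omega) p).trans e.symm)]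

theorem NK_le : NK ≤ MulAction.stabilizer UA K0 := by
  refine (Subgroup.closure_le _).2 ?_
  rintro g (rfl | rfl | rfl | rfl)
  exacts [gen_stab (g := 0) (by norm_num), gen_stab (g := 1) (by norm_num), gen_stab (g := 2) (by norm_num),
    gen_stab (g := 3) (by norm_num)]

theorem gen_mem_NK {g : ℕ} (h1 : 16 ≤ g) (h2 : g < 20) : uE g ∈ NK := by
  refine Subgroup.subset_closure ?_
  interval_cases g <;> simp

theorem card_NK_ge : 2400 ≤ Nat.card NK := by
  have hT := fun q (hq : q < 2400) => allN_iff.1 trip_ok q hq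
  simp only [okTrip, forceNat_eq, Bool.and_eq_true, Nat.blt_eq] at hT
  let pt3 : Fin 3 → Fin 2400 → ℕ := fun i q => tripC q.1 i.1
  have hlt : ∀ i q, pt3 i q < 1755 := by
    intro i q
    obtain ⟨⟨⟨⟨⟨-, h0⟩, h1⟩, h2⟩, -⟩, -⟩ := hT q.1 q.2
    fin_cases i
    exacts [h0, h1, h2]
  have hroot : Data.tripRoot < 2400 := by decide +kernel
  have main : ∀ q : Fin 2400, ∃ g ∈ NK, ∀ i,
      g • (⟨pt3 i ⟨_, hroot⟩, hlt i _⟩ : Fin 1755) = ⟨pt3 i q, hlt i q⟩ := by
    intro q
    induction hd : Nat.shiftRight (getW 56 Data.tripTab q.1) 48 using Nat.strong_induction_on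
      generalizing q with
    | _ d ih =>
      obtain ⟨⟨⟨⟨⟨h, -⟩, -⟩, -⟩, -⟩, -⟩ := hT q.1 q.2
      cases hb : Nat.beq (Nat.shiftRight (getW 56 Data.tripTab q.1) 48) 0
      · rw [hb, cond_false] at h
        simp only [Bool.and_eq_true, Nat.blt_eq] at h
        obtain ⟨⟨⟨⟨⟨hp, hg⟩, hdep⟩, e0⟩, e1⟩, e2⟩ := h
        obtain ⟨g, hgN, hgp⟩ := ih _ (hd ▸ hdep) ⟨_, hp⟩ rfl
        refine ⟨uE _ * g, mul_mem (gen_mem_NK (Nat.le_add_right _ _) hg) hgN, fun i => ?_⟩
        rw [mul_smul, hgp i]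
        refine Fin.ext ((uE_val (by omega) _).trans ?_)
        fin_cases i
        exacts [(Nat.eq_of_beq_eq_true e0).symm, (Nat.eq_of_beq_eq_true e1).symm,
          (Nat.eq_of_beq_eq_true e2).symm]
      · rw [hb, cond_true] at h
        refine ⟨1, one_mem _, fun i => ?_⟩
        rw [one_smul]
        exact Fin.ext (congrArg (fun q => tripC q i.1) (Nat.eq_of_beq_eq_true h).symm)
  choose g hgN hg using main
  have hinj : Function.Injective fun q => (⟨g q, hgN q⟩ : NK) := by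
    intro q q' e
    have e' : g q = g q' := congrArg Subtype.val e
    have hc : ∀ i, pt3 i q = pt3 i q' := fun i => Fin.val_eq_of_eq ((hg q i).symm.trans (e' ▸ hg q' i))
    have hmono : okInj 2400 tripVal (fun r => r) (fun r => r) = true := by
      simp only [okInj, Bool.and_eq_true, allN_iff, Nat.blt_eq, Nat.beq_eq]
      refine ⟨fun i hi => ⟨hi, trivial⟩, fun r hr => ?_⟩
      have h := (hT (r + 1) (by omega)).2
      rw [Bool.or_eq_true, Nat.add_sub_cancel, Nat.blt_eq] at h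
      rcases h with h | h
      · simp [beq_eq_decide] at h
      · exact h
    refine Fin.ext (okInj_spec hmono q.2 q'.2 ?_)
    rw [Nat.eq_of_beq_eq_true (hT q.1 q.2).1.2, Nat.eq_of_beq_eq_true (hT q'.1 q'.2).1.2]
    have a0 := hc 0
    have a1 := hc 1
    have a2 := hc 2
    simp only [pt3] at a0 a1 a2
    rw [show ((0 : Fin 3) : ℕ) = 0 from rfl] at a0
    rw [show ((1 : Fin 3) : ℕ) = 1 from rfl] at a1
    rw [show ((2 : Fin 3) : ℕ) = 2 from rfl] at a2
    rw [a0, a1, a2]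
  have := Nat.card_le_card_of_injective _ hinj
  rwa [Nat.card_fin] at this

theorem norm_gen {g : ℕ} (hg : g < 20) (hg' : 16 ≤ g) {e : UA} (he : e ∈ ({uE 16, uE 17} : Set UA)) :
    uE g * e * (uE g)⁻¹ ∈ E0 := by
  have hcase : ∀ t < 4, uE (18 + t / 2) * uE (16 + t % 2) * (uE (18 + t / 2))⁻¹ ∈ E0 := by
    intro t ht
    have h := fun p : Fin 1755 => Nat.eq_of_beq_eq_true (allN_iff.1 (allN_iff.1 norm_ok t ht) p.1 p.2)
    have e : uE (18 + t / 2) * uE (16 + t % 2) =
        uE 17 ^ (Data.normExp.getD t (0, 0)).2 * uE 16 ^ (Data.normExp.getD t (0, 0)).1 * uE (18 + t / 2) :=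
      UA_ext fun p => by
        rw [Subgroup.coe_mul, Equiv.Perm.mul_apply, Subgroup.coe_mul, Equiv.Perm.mul_apply, Subgroup.coe_mul,
          Equiv.Perm.mul_apply, powN_val (by norm_num), powN_val (by norm_num), uE_val (by omega),
          uE_val (by omega), uE_val (by omega)]
        exact h p
    rw [e, mul_inv_cancel_right]
    exact mul_mem (pow_mem uE17_mem _) (pow_mem uE16_mem _)
  have heE : e ∈ E0 := by rcases he with rfl | rfl; exacts [uE16_mem, uE17_mem]
  interval_cases g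
  · exact mul_mem (mul_mem uE16_mem heE) (inv_mem uE16_mem)
  · exact mul_mem (mul_mem uE17_mem heE) (inv_mem uE17_mem)
  · rcases he with rfl | rfl
    exacts [hcase 0 (by norm_num), hcase 1 (by norm_num)]
  · rcases he with rfl | rfl
    exacts [hcase 2 (by norm_num), hcase 3 (by norm_num)]

theorem NK_normal {g : UA} (hg : g ∈ NK) {y : UA} (hy : y ∈ E0) : g * y * g⁻¹ ∈ E0 := by
  have hg' : g ∈ Submonoid.closure ({uE 16, uE 17, uE 18, uE 19} : Set UA) := by
    rw [← Subgroup.closure_toSubmonoid_of_finite]; exact hg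
  clear hg
  induction hg' using Submonoid.closure_induction generalizing y with
  | mem z hz =>
    obtain ⟨a, b, rfl⟩ := hy
    obtain ⟨k, h1, h2, rfl⟩ : ∃ k, 16 ≤ k ∧ k < 20 ∧ z = uE k := by
      rcases hz with rfl | rfl | rfl | rfl
      exacts [⟨16, by norm_num⟩, ⟨17, by norm_num⟩, ⟨18, by norm_num⟩, ⟨19, by norm_num⟩]
    rw [← MulAut.conj_apply, map_mul, map_pow, map_pow, MulAut.conj_apply, MulAut.conj_apply]
    exact mul_mem (pow_mem (norm_gen h2 h1 (Or.inl rfl)) _) (pow_mem (norm_gen h2 h1 (Or.inr rfl)) _)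
  | one => simpa using hy
  | mul z z' _ _ ih ih' =>
    have e : z * z' * y * (z * z')⁻¹ = z * (z' * y * z'⁻¹) * z⁻¹ := by group
    rw [e]
    exact ih (ih' hy)

/-! ### The 14976 conjugates -/

theorem stepF_eq (f : ℕ → ℕ) : ∀ (L : List ℕ) (K : List ℕ → Bool), stepF f L K = K (L.map f)
  | [], _ => rfl
  | p :: ps, K => by rw [stepF, forceNat_eq, stepF_eq f ps, List.map_cons]

theorem rowOK_spec : ∀ (n c : ℕ) (L : List ℕ), rowOK c n L = true →
    ∀ k < n, slotOK (c + k) (L.map (powN 14 k)) = true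
  | 0, _, _, _, k, hk => absurd hk (Nat.not_lt_zero k)
  | n + 1, c, L, h, k, hk => by
    rw [rowOK, stepF_eq, Bool.and_eq_true] at h
    match k with
    | 0 => rw [show L.map (powN 14 0) = L from List.map_id L]; exact h.1
    | k + 1 =>
      have := rowOK_spec n (c + 1) _ h.2 k (by omega)
      rw [List.map_map] at this
      rw [show c + (k + 1) = c + 1 + k by omega,
        show L.map (powN 14 (k + 1)) = L.map (powN 14 k ∘ actN 14) from
          List.map_congr_left fun p _ => (powN_succ' 14 p k).symm]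
      exact this

theorem repW_lt {r : ℕ} (hr : r < 102) : ∀ g ∈ repW r, g < 14 := by
  have hmem : Data.reps.getD r ([], 0, [], 0, 0) ∈ Data.reps := by
    rw [List.getD_eq_getElem _ _ (by rw [reps_ok.1]; exact hr)]
    exact List.getElem_mem _
  have h := List.all_eq_true.1 reps_ok.2 _ hmem
  simp only [okRep, okRepForest, Bool.and_eq_true, List.all_eq_true, Nat.blt_eq] at h
  unfold repW
  exact h.1.1.2

theorem rowJ_true {j : ℕ} (hj : j < 1152) : rowJ j = true := by
  rcases Nat.lt_or_ge j 576 with h | h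
  · exact allN_iff.1 rows_lo j h
  · obtain ⟨m, rfl⟩ := Nat.exists_eq_add_of_le' h
    exact allN_iff.1 rows_hi m (by omega)

/-- The element of a code. -/
noncomputable def cE (c : ℕ) : UA :=
  uE 14 ^ (c % 13) * uE 15 ^ codeA (c / 13) * rP (repW (codeR (c / 13)))

theorem sum_hashL : ∀ L : List (Fin 1755),
    hashL (L.map Fin.val) = (L.map fun q => getW 40 Data.wTab q.1).sum
  | [] => by simp [hashL]
  | q :: L => by rw [List.map_cons, hashL, sum_hashL L, List.map_cons, List.sum_cons]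

theorem hash_slot (c : Fin 14976) :
    getW 14 Data.hPos c.1 < 14976 ∧ getW 14 Data.hOrd (getW 14 Data.hPos c.1) = c.1 ∧
      getW 48 Data.hTab (getW 14 Data.hPos c.1) = ∑ q ∈ cE c.1 • K0, getW 40 Data.wTab q.1 := by
  have hj : c.1 / 13 < 1152 := by omega
  have h := rowJ_true hj
  rw [rowJ, stepF_eq, Bool.and_eq_true, Nat.blt_eq] at h
  have hs := rowOK_spec 13 _ _ h.2 (c.1 % 13) (Nat.mod_lt _ (by norm_num))
  rw [Nat.div_add_mod, List.map_map] at hs
  simp only [slotOK, forceNat_eq, Bool.and_eq_true, Nat.blt_eq] at hs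
  refine ⟨hs.1.1, Nat.eq_of_beq_eq_true hs.1.2, ?_⟩
  have e : Data.key0.map ((powN 14 (c.1 % 13)) ∘ fun p =>
      powN 15 (codeA (c.1 / 13)) (rFn (repW (codeR (c.1 / 13))) p)) =
      (key0F.map fun p => cE c.1 • p).map Fin.val := by
    rw [← key0F_val, List.map_map, List.map_map]
    refine List.map_congr_left fun p _ => ?_
    show _ = ((cE c.1).1 p).1
    rw [cE, Subgroup.coe_mul, Subgroup.coe_mul, Equiv.Perm.mul_apply, Equiv.Perm.mul_apply,
      powN_val (by norm_num), powN_val (by norm_num), rFn_val (repW_lt h.1)]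
    rfl
  rw [Nat.eq_of_beq_eq_true hs.2, e, sum_hashL, ← List.sum_toFinset _
    (key0F_nodup.map (MulAction.injective _))]
  refine Finset.sum_congr ?_ fun _ _ => rfl
  ext q
  simp [K0, Finset.mem_smul_finset]

theorem cover (g : UA) : ∃ c : Fin 14976, (cE c.1)⁻¹ * g ∈ NK := by
  classical
  let f : Fin 14976 → MulAction.orbit UA K0 := fun c => ⟨cE c.1 • K0, cE c.1, rfl⟩
  have hf : Function.Injective f := by
    intro c d e
    obtain ⟨c1, c2, c3⟩ := hash_slot c
    obtain ⟨d1, d2, d3⟩ := hash_slot d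
    have e' : cE c.1 • K0 = cE d.1 • K0 := congrArg Subtype.val e
    rw [e', ← d3] at c3
    have hmono : okInj 14976 (getW 48 Data.hTab) (fun r => r) (fun r => r) = true := by
      simp only [okInj, Bool.and_eq_true, allN_iff, Nat.blt_eq, Nat.beq_eq]
      refine ⟨fun i hi => ⟨hi, trivial⟩, fun r hr => ?_⟩
      have := allN_iff.1 hTab_inc r hr
      rwa [Nat.blt_eq] at this
    have := okInj_spec hmono c1 d1 c3
    exact Fin.ext (by rw [← c2, ← d2, this])
  have h1 : 14976 ≤ (MulAction.orbit UA K0).ncard := by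
    have := Nat.card_le_card_of_injective f hf
    rwa [Nat.card_fin, Nat.card_coe_set_eq] at this
  have h2 : Nat.card NK ≤ Nat.card (MulAction.stabilizer UA K0) :=
    Nat.le_of_dvd Nat.card_pos (Subgroup.card_dvd_of_le NK_le)
  have h3 := (MulAction.stabilizer UA K0).card_mul_index
  rw [MulAction.index_stabilizer, card_bounds.2] at h3
  have h4 := card_NK_ge
  have h5 : (MulAction.orbit UA K0).ncard = 14976 := by nlinarith
  have h6 : Nat.card (MulAction.stabilizer UA K0) = 2400 := by rw [h5] at h3; omega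
  have hb : Function.Bijective f :=
    (Nat.bijective_iff_injective_and_card f).2 ⟨hf, by rw [Nat.card_fin, Nat.card_coe_set_eq, h5]⟩
  obtain ⟨c, hc⟩ := hb.2 ⟨g • K0, g, rfl⟩
  refine ⟨c, ?_⟩
  have hs : (cE c.1)⁻¹ * g ∈ MulAction.stabilizer UA K0 := by
    rw [MulAction.mem_stabilizer_iff, mul_smul, inv_smul_eq_iff]
    exact (congrArg Subtype.val hc).symm
  rwa [Subgroup.eq_of_le_of_card_ge NK_le (by omega)]

/-! ### The invariant sets -/

/-- The set of neighbours of some non-neighbour. -/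
def IsNbrSet (T : Finset (Fin 1755)) : Prop :=
  ∃ w : Fin 2304, ∀ i : Fin 1755, i ∈ T ↔ adj (ptA i).1 (ptB w).1 = true

theorem isNbrSet_smul {g : UA} {T : Finset (Fin 1755)} (h : IsNbrSet (g • T)) : IsNbrSet T := by
  obtain ⟨w, hw⟩ := h
  obtain ⟨σ, hσ⟩ := res_bijective.2 g
  refine ⟨actB σ⁻¹ w, fun i => ?_⟩
  rw [← Finset.smul_mem_smul_finset_iff g, hw, ptB_actB, smul_UA, ← hσ, ptA_res,
    ← (σ : GA).2 (ptA i) (((σ⁻¹ : GA0) : GA).1 (ptB w))]
  refine iff_of_eq (congrArg (fun z : Fin 4060 => adj ((σ : GA).1 (ptA i)).1 z.1 = true) ?_)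
  exact ((σ : GA).1.apply_symm_apply _).symm

theorem x_pow13 : uE 14 ^ 13 = 1 := UA_ext fun p => by
  have h := allN_iff.1 x_ok.1 p.1 p.2
  rw [Bool.and_eq_true] at h
  rw [powN_val (by norm_num), Nat.eq_of_beq_eq_true h.1]
  rfl

theorem orderOf_x : orderOf (uE 14) = 13 := by
  have : Fact (Nat.Prime 13) := ⟨by norm_num⟩
  refine orderOf_eq_prime x_pow13 fun e => ?_
  have h := congrArg (fun g : UA => (g.1 0).1) e
  simp only [uE_val (show 14 < 22 by norm_num)] at h
  have hb := x_ok.2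
  rw [beq_eq_decide, decide_eq_false_iff_not] at hb
  exact hb h

theorem n_conj_x : ∀ a : ℕ, uE 15 ^ a * uE 14 * (uE 15 ^ a)⁻¹ = uE 14 ^ 2 ^ a
  | 0 => by simp
  | a + 1 => by
    have e : uE 15 * uE 14 * (uE 15)⁻¹ = uE 14 ^ 2 := by
      rw [mul_inv_eq_iff_eq_mul]
      refine UA_ext fun p => ?_
      have h := allN_iff.1 x_ok.1 p.1 p.2
      rw [Bool.and_eq_true] at h
      rw [Subgroup.coe_mul, Subgroup.coe_mul, Equiv.Perm.mul_apply, Equiv.Perm.mul_apply,
        powN_val (by norm_num), uE_val (by norm_num), uE_val (by norm_num), uE_val (by norm_num)]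
      exact Nat.eq_of_beq_eq_true h.2
    calc uE 15 ^ (a + 1) * uE 14 * (uE 15 ^ (a + 1))⁻¹
        = MulAut.conj (uE 15) (uE 15 ^ a * uE 14 * (uE 15 ^ a)⁻¹) := by
          rw [MulAut.conj_apply, pow_succ']; group
      _ = uE 14 ^ 2 ^ (a + 1) := by
          rw [n_conj_x a, map_pow, MulAut.conj_apply, e, ← pow_mul, pow_succ, mul_comm]

theorem stab_smul_iff {g h : UA} {T : Finset (Fin 1755)} :
    h ∈ MulAction.stabilizer UA (g • T) ↔ g⁻¹ * h * g ∈ MulAction.stabilizer UA T := by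
  rw [MulAction.mem_stabilizer_iff, MulAction.mem_stabilizer_iff, mul_smul, mul_smul, inv_smul_eq_iff]

/-- The set of a representative. -/
theorem rep_case {r : ℕ} (hr : r < 102) (T : Finset (Fin 1755)) (hx : uE 14 ∈ MulAction.stabilizer UA T)
    (he : ∀ g < 2, rP (repW r) * uE (16 + g) * (rP (repW r))⁻¹ ∈ MulAction.stabilizer UA T)
    (hT : T.card = 780) : IsNbrSet T := by
  classical
  set R := Data.reps.getD r ([], 0, [], 0, 0) with hR
  have hmem : R ∈ Data.reps := by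
    rw [hR, List.getD_eq_getElem _ _ (by rw [reps_ok.1]; exact hr)]
    exact List.getElem_mem _
  have hw : repW r = R.1 := by unfold repW; rw [hR]
  rw [hw] at he
  have h := List.all_eq_true.1 reps_ok.2 R hmem
  rw [okRep, Bool.and_eq_true] at h
  obtain ⟨hf, hs⟩ := h
  simp only [okRepForest, Bool.and_eq_true, List.all_eq_true, Nat.blt_eq, allN_iff] at hf
  obtain ⟨⟨hlen, hwlt⟩, hf⟩ := hf
  have hlen' : R.2.2.1.length = R.2.1 := Nat.eq_of_beq_eq_true hlen
  have inv : ∀ g ∈ MulAction.stabilizer UA T, ∀ p, g • p ∈ T ↔ p ∈ T := fun g hg p => by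
    conv_lhs => rw [← MulAction.mem_stabilizer_iff.1 hg, Finset.smul_mem_smul_finset_iff]
  let Tb : ℕ → Bool := fun p => decide (∃ hp : p < 1755, (⟨p, hp⟩ : Fin 1755) ∈ T)
  have hTb : ∀ p : Fin 1755, Tb p.1 = decide (p ∈ T) := fun p =>
    decide_eq_decide.2 ⟨fun ⟨_, h⟩ => h, fun h => ⟨p.2, h⟩⟩
  have hcyc : ∀ p : Fin 1755, Tb p.1 = Tb (cRep (cycN p.1)) ∧ cycN p.1 < 135 := by
    intro p
    have h := allN_iff.1 cyc_ok p.1 p.2
    simp only [Bool.and_eq_true, Nat.blt_eq] at h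
    refine ⟨?_, h.1.1⟩
    rw [hTb p, hTb ⟨_, h.1.2⟩, decide_eq_decide, ← inv _ (pow_mem hx (cycK p.1)) ⟨_, h.1.2⟩]
    rw [show uE 14 ^ cycK p.1 • (⟨cRep (cycN p.1), h.1.2⟩ : Fin 1755) = p from
      Fin.ext ((powN_val (by norm_num) _ _).trans (Nat.eq_of_beq_eq_true h.2))]
  set m := rootMask R.2.2.1 (fun q => Tb (cRep q)) with hm
  have key : ∀ q < 135, Tb (cRep q) = m.testBit (rLab R.2.2.2.2 q) := by
    intro q hq
    induction hd : rDep R.2.2.2.2 q using Nat.strong_induction_on generalizing q with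
    | _ d ih =>
      obtain ⟨hl, hc⟩ := hf q hq
      cases hb : Nat.beq (rDep R.2.2.2.2 q) 0
      · rw [hb, cond_false] at hc
        simp only [forceNat_eq, Bool.and_eq_true, Nat.blt_eq] at hc
        obtain ⟨⟨hp, hg⟩, ⟨hle, hdep⟩, hp', hq'⟩ := hc
        have hpc := hcyc ⟨_, hp⟩
        rw [← Nat.eq_of_beq_eq_true hle, ← ih _ (hd ▸ hdep) _ hpc.2 rfl, ← hpc.1]
        have hpc' := hcyc ⟨_, hp'⟩
        simp only [Nat.eq_of_beq_eq_true hq'] at hpc'
        rw [← hpc'.1, hTb ⟨_, hp'⟩, hTb ⟨_, hp⟩, decide_eq_decide, ← inv _ (he _ hg) ⟨_, hp⟩]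
        rw [show (rP R.1 * uE (16 + rGen R.2.2.2.2 q) * (rP R.1)⁻¹) •
            (⟨rPar R.2.2.2.2 q, hp⟩ : Fin 1755) = ⟨_, hp'⟩ from Fin.ext (erFn_val hwlt hg _)]
      · rw [hb, cond_true] at hc
        rw [hm, testBit_rootMask _ _ _ (hlen'.symm ▸ hl), Nat.eq_of_beq_eq_true hc]
  have hall : ∀ p : Fin 1755, decide (p ∈ T) = m.testBit (rLab R.2.2.2.2 (cycN p.1)) := fun p => by
    rw [← hTb, (hcyc p).1, key _ (hcyc p).2]
  have hsz : cntN 1755 (fun p => m.testBit (rLab R.2.2.2.2 (cycN p))) = 780 := by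
    rw [cntN_eq, ← hT]
    exact congrArg Finset.card (by ext p; simp [← hall p])
  rw [okRepSets, allN_iff] at hs
  have hm' : m < 2 ^ R.2.1 := hlen' ▸ rootMask_lt _ _
  have h := hs m hm'
  rw [hsz] at h
  simp only [Bool.or_eq_true, Bool.not_eq_true', Bool.and_eq_true, allN_iff, Nat.blt_eq, beq_iff_eq] at h
  rcases h with h | ⟨⟨h1, h2⟩, h3⟩
  · simp [beq_eq_decide] at h
  · have h1' := Nat.le_of_ble_eq_true h1
    refine ⟨⟨R.2.2.2.1 - 1756, by omega⟩, fun p => ?_⟩
    have h4 := h3 p.1 p.2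
    rw [← hall p] at h4
    rw [show (ptB ⟨R.2.2.2.1 - 1756, by omega⟩).1 = R.2.2.2.1 from Nat.sub_add_cancel h1',
      show (ptA p).1 = p.1 + 1 from rfl, ← h4, decide_eq_true_iff]

/-- An invariant set of 780 neighbours of a subgroup of order 15600. -/
theorem set780 {M : Subgroup UA} (hM : Nat.card M = 15600) {T : Finset (Fin 1755)}
    (hT : M ≤ MulAction.stabilizer UA T) (hc : T.card = 780) : IsNbrSet T := by
  classical
  have syl : ∀ (p n : ℕ) (K : Subgroup UA), p.Prime → p ^ n ∣ 15600 →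
      (35942400 : ℕ).factorization p = n → Nat.card K = p ^ n →
      ∃ u : UA, ∀ k ∈ K, u * k * u⁻¹ ∈ MulAction.stabilizer UA T := by
    intro p n K hp hdvd hfac hK
    have : Fact p.Prime := ⟨hp⟩
    obtain ⟨P, hP⟩ := Sylow.exists_subgroup_card_pow_prime p (G := M) (n := n) (by rw [hM]; exact hdvd)
    set Q := P.map M.subtype with hQ
    have hQc : Nat.card Q = p ^ (Nat.card UA).factorization p := by
      rw [hQ, Subgroup.card_map_of_injective M.subtype_injective, hP, card_bounds.2, hfac]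
    have hKc : Nat.card K = p ^ (Nat.card UA).factorization p := by rw [hK, card_bounds.2, hfac]
    obtain ⟨u, hu⟩ := MulAction.exists_smul_eq UA (Sylow.ofCard K hKc) (Sylow.ofCard Q hQc)
    refine ⟨u, fun k hk => hT (Subgroup.map_subtype_le P ?_)⟩
    have : u * k * u⁻¹ ∈ ((u • Sylow.ofCard K hKc : Sylow p UA) : Subgroup UA) := by
      rw [Sylow.coe_subgroup_smul, Subgroup.mem_pointwise_smul_iff_inv_smul_mem]
      simpa [mul_assoc] using hk
    rw [hu] at this
    exact this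
  have hf : ∀ p n r : ℕ, p.Prime → 35942400 = p ^ n * r → ¬ p ∣ r →
      (35942400 : ℕ).factorization p = n := by
    intro p n r hp e hr
    have hr0 : r ≠ 0 := fun h => hr (h ▸ dvd_zero p)
    rw [e, Nat.factorization_mul (pow_ne_zero _ hp.ne_zero) hr0, Nat.Prime.factorization_pow hp,
      Finsupp.add_apply, Finsupp.single_eq_same, Nat.factorization_eq_zero_of_not_dvd hr, add_zero]
  obtain ⟨v, hv⟩ := syl 13 1 (Subgroup.zpowers (uE 14)) (by norm_num) (by norm_num)
    (hf 13 1 2764800 (by norm_num) (by norm_num) (by norm_num)) (by rw [Nat.card_zpowers, orderOf_x]; rfl)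
  obtain ⟨u, hu⟩ := syl 5 2 E0 (by norm_num) (by norm_num)
    (hf 5 2 1437696 (by norm_num) (by norm_num) (by norm_num)) (by rw [card_E0]; rfl)
  obtain ⟨c, hn⟩ := cover (v⁻¹ * u)
  set P := uE 14 ^ (c.1 % 13) * uE 15 ^ codeA (c.1 / 13) with hP
  refine isNbrSet_smul (g := (v * P)⁻¹) (rep_case (r := codeR (c.1 / 13)) ?_ _ ?_ ?_ ?_)
  · have h := rowJ_true (j := c.1 / 13) (by omega)
    rw [rowJ, Bool.and_eq_true, Nat.blt_eq] at h
    exact h.1
  · rw [stab_smul_iff, inv_inv]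
    have e : v * P * uE 14 * (v * P)⁻¹ = v * uE 14 ^ 2 ^ codeA (c.1 / 13) * v⁻¹ := by
      rw [← n_conj_x, hP]
      set X := uE 14 ^ (c.1 % 13)
      set A := uE 15 ^ codeA (c.1 / 13)
      have hcomm : X * (A * uE 14 * A⁻¹) = (A * uE 14 * A⁻¹) * X := by
        rw [n_conj_x]; exact (Commute.pow_pow (Commute.refl (uE 14)) _ _).eq
      calc v * (X * A) * uE 14 * (v * (X * A))⁻¹ = v * (X * (A * uE 14 * A⁻¹) * X⁻¹) * v⁻¹ := by group
        _ = _ := by rw [hcomm, mul_inv_cancel_right]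
    rw [e]
    exact hv _ (pow_mem (Subgroup.mem_zpowers _) _)
  · intro g hg
    rw [stab_smul_iff, inv_inv]
    have hy : uE (16 + g) ∈ E0 := by
      interval_cases g
      exacts [uE16_mem, uE17_mem]
    have hmem := hu _ (NK_normal (inv_mem hn) hy)
    convert hmem using 1
    rw [cE, ← hP]
    group
  · rw [Finset.card_smul_finset, hc]

end Cfsg.Agent.Lib.RuRank3
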