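import Cfsg.Agent.Lib.RuRank3.Orbital
import Cfsg.Agent.Lib.RuRank3.Sylow780

/-! A group with this rank three action is the Rudvalis group. -/

set_option autoImplicit false
set_option maxRecDepth 100000

namespace Cfsg.Agent.Lib.RuRank3

open Cfsg.Agent.Lib.Computation (getW)
open scoped Pointwise

attribute [local irreducible] getW adj adjA cntN actN

theorem nbr_unique {w w' : Fin 2304}
    (h : ∀ i : Fin 1755, adj (ptA i).1 (ptB w).1 = adj (ptA i).1 (ptB w').1) : w = w' := by
  refine Fin.ext (okInj_spec sig_ok w.2 w'.2 (sig_congr fun b hb => ?_))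
  have hb' := List.all_eq_true.1 basis_ok b hb
  simp only [Bool.and_eq_true, Nat.blt_eq] at hb'
  have := h ⟨b - 1, by omega⟩
  have e : (ptA ⟨b - 1, by omega⟩).1 = b := (show b - 1 + 1 = b by omega)
  rw [e, show (ptB w).1 = w.1 + 1756 from rfl, show (ptB w').1 = w'.1 + 1756 from rfl,
    adj_symm (by omega) (by omega), adj_symm (i := b) (j := w'.1 + 1756) (by omega) (by omega)] at this
  exact this

theorem not_adj_zero_B (j : Fin 2304) : adj (0 : Fin 4060).1 (ptB j).1 = false := by
  rw [← Bool.not_eq_true, show (0 : Fin 4060).1 = 0 from rfl, adj_zero (ptB j).2]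
  have : (ptB j).1 = j.1 + 1756 := rfl
  omega

theorem adj_zero_A (i : Fin 1755) : adj (0 : Fin 4060).1 (ptA i).1 = true := by
  rw [show (0 : Fin 4060).1 = 0 from rfl, adj_zero (ptA i).2]
  exact ⟨Nat.le_add_left 1 _, i.2⟩

variable {X V : Type*} [Group X] [Finite X] [MulAction X V] [Fintype V]

theorem main [MulAction.IsPretransitive X V] [FaithfulSMul X V] (hV : Fintype.card V = 4060) (a b c : V)
    (e : MulAction.stabilizer X a ≃* Cfsg.Lie.twistedF4 (ZMod 2) 1)
    (hb : (MulAction.orbit (MulAction.stabilizer X a) b).ncard = 1755)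
    (hc : (MulAction.orbit (MulAction.stabilizer X a) c).ncard = 2304) : Nonempty (X ≃* Cfsg.Spor.Ru) := by
  classical
  obtain ⟨Γ⟩ := exists_orbital hV a b c hb hc
  let K := MulAction.stabilizer X a
  let ψ : K ≃* UA := e.trans equivF4
  have hKc : Nat.card K = 35942400 := (Nat.card_congr ψ.toEquiv).trans card_bounds.2
  have sub_card : ∀ (y : V) (n k : ℕ), (MulAction.orbit K y).ncard = n → n * k = 35942400 → 0 < n →
      Nat.card ((MulAction.stabilizer K y).map ψ.toMonoidHom) = k := by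
    intro y n k hn hnk hn0
    rw [Subgroup.card_map_of_injective ψ.injective]
    have h := (MulAction.stabilizer K y).index_mul_card
    rw [MulAction.index_stabilizer, hn, hKc, ← hnk] at h
    exact Nat.eq_of_mul_eq_mul_left hn0 h
  -- the neighbours of `a`
  obtain ⟨i0, hi0⟩ := exists_stab_eq (sub_card b 1755 20480 hb (by norm_num) (by norm_num))
  have hfix : ∀ k : K, k • b = b ↔ ψ k • i0 = i0 := by
    intro k
    constructor
    · intro h
      have : ψ k ∈ (MulAction.stabilizer K b).map ψ.toMonoidHom := Subgroup.mem_map.2 ⟨k, h, rfl⟩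
      rw [hi0] at this
      exact this
    · intro h
      have : ψ k ∈ (MulAction.stabilizer K b).map ψ.toMonoidHom := by rw [hi0]; exact h
      obtain ⟨k', hk', e'⟩ := Subgroup.mem_map.1 this
      rw [ψ.injective e'] at hk'
      exact hk'
  have htr : ∀ i, ∃ u : UA, u • i0 = i := fun i => by
    obtain ⟨u, hu, e⟩ := UA_transitive i0 i
    exact ⟨⟨u, hu⟩, e⟩
  choose hI hIe using htr
  let ι : Fin 1755 → V := fun i => ψ.symm (hI i) • b
  have ιkey : ∀ (k : K) (i : Fin 1755), ψ k • i0 = i → k • b = ι i := by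
    intro k i h
    have : (ψ.symm (hI i))⁻¹ * k ∈ MulAction.stabilizer K b := by
      rw [MulAction.mem_stabilizer_iff, hfix, map_mul, map_inv, MulEquiv.apply_symm_apply, mul_smul, h,
        inv_smul_eq_iff, hIe]
    rw [MulAction.mem_stabilizer_iff, mul_smul, inv_smul_eq_iff] at this
    exact this
  have ιeq : ∀ (k : K) i, k • ι i = ι (ψ k • i) := by
    intro k i
    show k • ψ.symm (hI i) • b = _
    rw [← mul_smul]
    exact ιkey _ _ (by rw [map_mul, MulEquiv.apply_symm_apply, mul_smul, hIe])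
  have ιinj : Function.Injective ι := by
    intro i j h
    have h' : ((ψ.symm (hI j))⁻¹ * ψ.symm (hI i)) • b = b := by
      rw [mul_smul, inv_smul_eq_iff]; exact h
    rw [hfix, map_mul, map_inv, MulEquiv.apply_symm_apply, MulEquiv.apply_symm_apply, mul_smul,
      inv_smul_eq_iff, hIe, hIe] at h'
    exact h'
  have ιadj : ∀ i, Γ.Adj a (ι i) := fun i => (Γ.nbr _).2 ⟨_, rfl⟩
  have ιsurj : ∀ y, Γ.Adj a y → ∃ i, ι i = y := by
    intro y hy
    obtain ⟨k, rfl⟩ := (Γ.nbr y).1 hy
    exact ⟨ψ k • i0, (ιkey k _ rfl).symm⟩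
  have invK : ∀ (k : K) x y, Γ.Adj (k • x) (k • y) ↔ Γ.Adj x y := fun k x y => Γ.inv (k : X) x y
  let Nb : V → Finset V := fun x => Finset.univ.filter fun y => Γ.Adj x y
  have hNa : Nb a = Finset.univ.image ι := by
    ext y
    simp only [Nb, Finset.mem_filter, Finset.mem_univ, true_and, Finset.mem_image]
    exact ⟨ιsurj y, fun ⟨i, hi⟩ => hi ▸ ιadj i⟩
  have hdeg : ∀ x, (Nb x).card = 1755 := by
    intro x
    obtain ⟨g, rfl⟩ := MulAction.exists_smul_eq X a x
    have e1 : Nb (g • a) = (Nb a).image (fun y => g • y) := by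
      ext y
      simp only [Nb, Finset.mem_filter, Finset.mem_univ, true_and, Finset.mem_image]
      constructor
      · intro hy
        exact ⟨g⁻¹ • y, by rw [← Γ.inv g, smul_inv_smul]; exact hy, smul_inv_smul g y⟩
      · rintro ⟨z, hz, rfl⟩; exact (Γ.inv g a z).2 hz
    rw [e1, Finset.card_image_of_injective _ (MulAction.injective g), hNa,
      Finset.card_image_of_injective _ ιinj, Finset.card_univ, Fintype.card_fin]
  have ainO : ∀ y, y ∈ MulAction.orbit K c → ¬ Γ.Adj a y := by
    rintro y ⟨k, rfl⟩ h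
    refine Γ.not_c.1 ((invK k a c).1 ?_)
    rwa [show k • a = a from k.2]
  -- the graph on the neighbours of `a`
  let T : Finset (Fin 1755) := Finset.univ.filter fun i => Γ.Adj (ι 0) (ι i)
  have Tinv : ∀ g : UA, g.1 0 = 0 → ∀ i, g.1 i ∈ T ↔ i ∈ T := by
    intro g hg i
    simp only [T, Finset.mem_filter, Finset.mem_univ, true_and]
    conv_lhs => rw [← hg]
    rw [show ι (g.1 0) = ψ.symm g • ι 0 from by rw [ιeq, MulEquiv.apply_symm_apply]; rfl,
      show ι (g.1 i) = ψ.symm g • ι i from by rw [ιeq, MulEquiv.apply_symm_apply]; rfl]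
    exact invK _ _ _
  let OC : Finset V := Finset.univ.filter fun y => y ∈ MulAction.orbit K c
  have hOC : OC.card = 2304 := by
    rw [← hc, ← Set.ncard_coe_finset]
    congr 1
    ext y
    simp only [OC, Finset.coe_filter, Finset.mem_univ, true_and]
    rfl
  let S : V → Finset (Fin 1755) := fun y => Finset.univ.filter fun i => Γ.Adj y (ι i)
  have split_nb : ∀ x, (Nb x).card = (if Γ.Adj x a then 1 else 0) + (S x).card +
      (OC.filter fun y => Γ.Adj x y).card := by
    intro x
    have e1 : Nb x = ((({a} : Finset V).filter fun y => Γ.Adj x y) ∪ (S x).image ι) ∪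
        OC.filter fun y => Γ.Adj x y := by
      ext y
      simp only [Nb, S, OC, Finset.mem_filter, Finset.mem_univ, true_and, Finset.mem_union, Finset.mem_image,
        Finset.mem_singleton]
      constructor
      · intro hy
        rcases Γ.three y with rfl | h | h
        · exact Or.inl (Or.inl ⟨rfl, hy⟩)
        · obtain ⟨i, rfl⟩ := ιsurj y ((Γ.nbr y).2 h)
          exact Or.inl (Or.inr ⟨i, hy, rfl⟩)
        · exact Or.inr ⟨h, hy⟩
      · rintro ((⟨-, h⟩ | ⟨i, h, rfl⟩) | ⟨-, h⟩) <;> exact h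
    have d1 : Disjoint (({a} : Finset V).filter fun y => Γ.Adj x y) ((S x).image ι) := by
      rw [Finset.disjoint_left]
      rintro y hy hy'
      obtain ⟨i, -, rfl⟩ := Finset.mem_image.1 hy'
      have := Finset.mem_singleton.1 (Finset.mem_filter.1 hy).1
      exact Γ.irrefl a (by have h := ιadj i; rwa [this] at h)
    have d2 : Disjoint ((({a} : Finset V).filter fun y => Γ.Adj x y) ∪ (S x).image ι)
        (OC.filter fun y => Γ.Adj x y) := by
      rw [Finset.disjoint_left]
      intro y hy hy'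
      have hO : y ∈ MulAction.orbit K c := (Finset.mem_filter.1 (Finset.mem_filter.1 hy').1).2
      rcases Finset.mem_union.1 hy with h | h
      · rw [Finset.mem_singleton.1 (Finset.mem_filter.1 h).1] at hO
        obtain ⟨k, hk⟩ := hO
        exact Γ.not_c.2 (MulAction.injective k ((show k • a = a from k.2).trans hk.symm))
      · obtain ⟨i, -, rfl⟩ := Finset.mem_image.1 h
        exact ainO _ hO (ιadj i)
    rw [e1, Finset.card_union_of_disjoint d2, Finset.card_union_of_disjoint d1,
      Finset.card_image_of_injective _ ιinj, Finset.filter_singleton]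
    split_ifs <;> simp
  have hST : S (ι 0) = T := rfl
  have h0T : (0 : Fin 1755) ∉ T := fun h => Γ.irrefl _ (Finset.mem_filter.1 h).2
  have hCb : 1 + T.card + (OC.filter fun y => Γ.Adj (ι 0) y).card = 1755 := by
    have h := split_nb (ι 0)
    rw [hdeg, if_pos (Γ.symm _ _ (ιadj 0)), hST] at h
    omega
  -- counts are constant on the two suborbits
  have hSk : ∀ (k : K) y, S (k • y) = ψ k • S y := by
    intro k y
    ext i
    simp only [S, Finset.mem_filter, Finset.mem_univ, true_and, ← Finset.inv_smul_mem_iff]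
    rw [← invK k y, ιeq, smul_inv_smul]
  have hCA : ∀ i : Fin 1755, (OC.filter fun y => Γ.Adj (ι i) y).card =
      (OC.filter fun y => Γ.Adj (ι 0) y).card := by
    intro i
    obtain ⟨u, hu, hu'⟩ := UA_transitive 0 i
    set k := ψ.symm ⟨u, hu⟩
    have ek : ι i = k • ι 0 := by
      rw [ιeq, MulEquiv.apply_symm_apply]
      exact congrArg ι hu'.symm
    refine (Finset.card_bij (fun y _ => k • y) ?_ ?_ ?_).symm
    · intro y hy
      simp only [OC, Finset.mem_filter, Finset.mem_univ, true_and] at hy ⊢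
      exact ⟨MulAction.orbit_smul k c ▸ (by
        obtain ⟨k', hk'⟩ := hy.1
        exact ⟨k * k' * k⁻¹, by rw [← hk']; simp [mul_smul]⟩), by rw [ek, invK]; exact hy.2⟩
    · intro y _ y' _ h; exact MulAction.injective k h
    · intro y hy
      simp only [OC, Finset.mem_filter, Finset.mem_univ, true_and] at hy ⊢
      obtain ⟨⟨k', hk'⟩, hy2⟩ := hy
      refine ⟨k⁻¹ • y, ⟨⟨k⁻¹ * k', by rw [← hk']; exact mul_smul _ _ _⟩, ?_⟩, smul_inv_smul k y⟩
      rw [← invK k, smul_inv_smul, ← ek]
      exact hy2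
  have hSc : ∀ y ∈ OC, (S y).card = (S c).card := by
    intro y hy
    obtain ⟨k, rfl⟩ := (Finset.mem_filter.1 hy).2
    rw [hSk, Finset.card_smul_finset]
  have hdouble : 1755 * (OC.filter fun y => Γ.Adj (ι 0) y).card = 2304 * (S c).card := by
    have h := Finset.sum_card_bipartiteAbove_eq_sum_card_bipartiteBelow (s := (Finset.univ : Finset (Fin 1755)))
      (t := OC) (fun i y => Γ.Adj (ι i) y)
    have h1 : ∀ i, (Finset.bipartiteAbove (fun i y => Γ.Adj (ι i) y) OC i).card =
        (OC.filter fun y => Γ.Adj (ι 0) y).card := fun i => hCA i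
    have h2 : ∀ y ∈ OC, (Finset.bipartiteBelow (fun i y => Γ.Adj (ι i) y) Finset.univ y).card =
        (S c).card := by
      intro y hy
      rw [← hSc y hy]
      refine congrArg Finset.card ?_
      ext i
      simp only [Finset.bipartiteBelow, S, Finset.mem_filter, Finset.mem_univ, true_and]
      exact ⟨Γ.symm _ _, Γ.symm _ _⟩
    rw [Finset.sum_congr rfl (fun i _ => h1 i), Finset.sum_congr rfl h2, Finset.sum_const, Finset.sum_const,
      Finset.card_univ, Fintype.card_fin, hOC, smul_eq_mul, smul_eq_mul] at h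
    exact h
  have hs : T.card ≠ 1754 := by
    intro hs
    have hTall : ∀ i : Fin 1755, i ≠ 0 → i ∈ T := by
      intro i hi
      by_contra hiT
      have h1 : T ⊆ (Finset.univ.erase (0 : Fin 1755)).erase i := fun z hz =>
        Finset.mem_erase.2 ⟨fun h => hiT (h ▸ hz), Finset.mem_erase.2 ⟨fun h => h0T (h ▸ hz), Finset.mem_univ _⟩⟩
      have h2 := Finset.card_le_card h1
      rw [Finset.card_erase_of_mem (Finset.mem_erase.2 ⟨hi, Finset.mem_univ _⟩),
        Finset.card_erase_of_mem (Finset.mem_univ _), Finset.card_univ, Fintype.card_fin, hs] at h2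
      omega
    have hC0 : (OC.filter fun y => Γ.Adj (ι 0) y).card = 0 := by omega
    refine not_clique (X := X) hV Γ.symm Γ.irrefl Γ.inv a ?_ ?_
    · rw [← hdeg a, ← Set.ncard_coe_finset]
      congr 1
      ext y
      simp [Nb]
    intro y hy z hz
    obtain ⟨i, rfl⟩ := ιsurj y hy
    rcases Γ.three z with h | h | h
    · exact Or.inl h
    · exact Or.inr ((Γ.nbr z).2 h)
    · exfalso
      have : z ∈ OC.filter fun y => Γ.Adj (ι i) y :=
        Finset.mem_filter.2 ⟨Finset.mem_filter.2 ⟨Finset.mem_univ _, h⟩, hz⟩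
      have h0 := hCA i
      rw [hC0, Finset.card_eq_zero] at h0
      rw [h0] at this
      simp at this
  have hdvd : 2304 ∣ 1755 * (1754 - T.card) := by
    rw [show 1754 - T.card = (OC.filter fun y => Γ.Adj (ι 0) y).card by omega]
    exact ⟨_, hdouble⟩
  have hT := lam_eq T h0T Tinv hs hdvd
  have hTc : T.card = 730 := by
    rw [← adjA_zero_count.1, cntN_eq]
    refine congrArg Finset.card ?_
    ext i
    simp [hT i]
  have hμ : (S c).card = 780 := by omega
  have hAA : ∀ i j, Γ.Adj (ι i) (ι j) ↔ adjA i.1 j.1 = true := by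
    intro i j
    obtain ⟨u, hu, hu'⟩ := UA_transitive 0 i
    obtain ⟨j', rfl⟩ : ∃ j', u j' = j := ⟨u.symm j, u.apply_symm_apply j⟩
    subst hu'
    rw [show ι (u 0) = ψ.symm ⟨u, hu⟩ • ι 0 from by rw [ιeq, MulEquiv.apply_symm_apply]; rfl,
      show ι (u j') = ψ.symm ⟨u, hu⟩ • ι j' from by rw [ιeq, MulEquiv.apply_symm_apply]; rfl, invK,
      hu 0 j', show ((0 : Fin 1755) : ℕ) = 0 from rfl, ← hT j']
    simp [T]
  -- the other suborbit
  have hw : ∀ y : OC, ∃ w : Fin 2304, ∀ i, Γ.Adj y.1 (ι i) ↔ adj (ptA i).1 (ptB w).1 = true := by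
    rintro ⟨y, hy⟩
    have ho : (MulAction.orbit K y).ncard = 2304 := by
      rw [MulAction.orbit_eq_iff.2 (Finset.mem_filter.1 hy).2, hc]
    have hM := sub_card y 2304 15600 ho (by norm_num) (by norm_num)
    have hle : (MulAction.stabilizer K y).map ψ.toMonoidHom ≤ MulAction.stabilizer UA (S y) := by
      rintro _ ⟨k, hk, rfl⟩
      show ψ k • S y = S y
      rw [← hSk, show k • y = y from hk]
    obtain ⟨w, hw⟩ := set780 hM hle (by rw [hSc y hy, hμ])
    exact ⟨w, fun i => by rw [← hw i]; simp [S]⟩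
  choose wt hwt using hw
  let toK : GA0 → K := fun σ => ψ.symm (res σ)
  have toKι : ∀ σ i, toK σ • ι i = ι ((res σ).1 i) := fun σ i => by
    rw [ιeq]
    show ι (ψ (ψ.symm (res σ)) • i) = _
    rw [MulEquiv.apply_symm_apply]
    rfl
  have toKmem : ∀ (σ : GA0) (y : OC), toK σ • y.1 ∈ OC := fun σ y => by
    obtain ⟨k, hk⟩ := (Finset.mem_filter.1 y.2).2
    exact Finset.mem_filter.2 ⟨Finset.mem_univ _, toK σ * k, by rw [← hk]; exact mul_smul _ _ _⟩
  have wteq : ∀ (σ : GA0) (y : OC), ptB (wt ⟨_, toKmem σ y⟩) = (σ : GA).1 (ptB (wt y)) := by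
    intro σ y
    rw [← ptB_actB]
    refine congrArg ptB (nbr_unique fun i => ?_)
    obtain ⟨i', rfl⟩ : ∃ i', (res σ).1 i' = i := ⟨(res σ).1.symm i, (res σ).1.apply_symm_apply i⟩
    rw [Bool.eq_iff_iff, ← hwt, ← toKι σ i', invK, hwt, ptB_actB, ptA_res, (σ : GA).2]
  have wsurj : Function.Surjective wt := by
    intro w
    have hy0 : c ∈ OC := Finset.mem_filter.2 ⟨Finset.mem_univ _, MulAction.mem_orbit_self _⟩
    obtain ⟨σ, hσ⟩ := GA0_transitive_B (wt ⟨c, hy0⟩) w
    exact ⟨_, ptB_inj ((wteq σ ⟨c, hy0⟩).trans hσ)⟩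
  have wbij : Function.Bijective wt :=
    (Fintype.bijective_iff_surjective_and_card _).2 ⟨wsurj, by rw [Fintype.card_coe, hOC, Fintype.card_fin]⟩
  let we := Equiv.ofBijective wt wbij
  let yB : Fin 2304 → V := fun w => (we.symm w).1
  have yB_eq : ∀ (σ : GA0) w, toK σ • yB w = yB (actB σ w) := by
    intro σ w
    have h := wteq σ (we.symm w)
    rw [show wt (we.symm w) = w from we.apply_symm_apply w, ← ptB_actB] at h
    have h' : we ⟨_, toKmem σ (we.symm w)⟩ = actB σ w := ptB_inj h
    show _ = (we.symm (actB σ w)).1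
    rw [← h', Equiv.symm_apply_apply]
  have yB_orb : ∀ w, yB w ∈ MulAction.orbit K c := fun w => (Finset.mem_filter.1 (we.symm w).2).2
  have hAB : ∀ i w, Γ.Adj (ι i) (yB w) ↔ adj (ptA i).1 (ptB w).1 = true := by
    intro i w
    have h := hwt (we.symm w) i
    rw [show wt (we.symm w) = w from we.apply_symm_apply w] at h
    rw [← h]
    exact ⟨Γ.symm _ _, Γ.symm _ _⟩
  let TB : Finset (Fin 2304) := Finset.univ.filter fun j => Γ.Adj (yB 0) (yB j)
  have TBinv : ∀ g : GA0, (g : GA).1 (ptB 0) = ptB 0 → ∀ j, actB g j ∈ TB ↔ j ∈ TB := by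
    intro g hg j
    have e0 : actB g 0 = 0 := ptB_inj (by rw [ptB_actB, hg])
    simp only [TB, Finset.mem_filter, Finset.mem_univ, true_and]
    conv_lhs => rw [← e0]
    rw [← yB_eq, ← yB_eq, invK]
  have TBcard : TB.card = 975 := by
    have h := split_nb (yB 0)
    rw [hdeg, if_neg (fun h => ainO _ (yB_orb 0) (Γ.symm _ _ h)), hSc _ (we.symm 0).2, hμ] at h
    have e1 : (OC.filter fun y => Γ.Adj (yB 0) y) = TB.image yB := by
      ext y
      simp only [Finset.mem_filter, Finset.mem_image, TB, Finset.mem_univ, true_and]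
      constructor
      · rintro ⟨h1, h2⟩
        exact ⟨we ⟨y, h1⟩, by rw [show yB (we ⟨y, h1⟩) = y by simp [yB]]; exact h2,
          by simp [yB]⟩
      · rintro ⟨j, hj, rfl⟩
        exact ⟨(we.symm j).2, hj⟩
    rw [e1, Finset.card_image_of_injective _ (fun _ _ h => we.symm.injective (Subtype.ext h))] at h
    omega
  have hTB := nbrB_eq TB TBinv TBcard
  have hBB : ∀ j j', Γ.Adj (yB j) (yB j') ↔ adj (ptB j).1 (ptB j').1 = true := by
    intro j j'
    obtain ⟨σ, hσ⟩ := GA0_transitive_B 0 j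
    have ej : actB σ 0 = j := ptB_inj (by rw [ptB_actB, hσ])
    obtain ⟨j'', rfl⟩ : ∃ j'', actB σ j'' = j' := ⟨(permB σ).symm j', (permB σ).apply_symm_apply j'⟩
    rw [← ej, ← yB_eq, ← yB_eq, invK, ptB_actB, ptB_actB, (σ : GA).2,
      show (ptB (0 : Fin 2304)).1 = 1756 from rfl, show (ptB j'').1 = j''.1 + 1756 from rfl, ← hTB]
    simp [TB]
  -- the isomorphism of graphs
  let κ : Fin 4060 → V := fun p =>
    if p.1 = 0 then a else if h : p.1 < 1756 then ι ⟨p.1 - 1, by omega⟩ else yB ⟨p.1 - 1756, by omega⟩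
  have cases3 : ∀ p : Fin 4060, p = 0 ∨ (∃ i, p = ptA i) ∨ ∃ j, p = ptB j := by
    intro p
    rcases Nat.eq_zero_or_pos p.1 with h | h
    · exact Or.inl (Fin.ext h)
    rcases Nat.lt_or_ge p.1 1756 with h' | h'
    · exact Or.inr (Or.inl ⟨⟨p.1 - 1, by omega⟩, Fin.ext (show p.1 = p.1 - 1 + 1 by omega)⟩)
    · exact Or.inr (Or.inr ⟨⟨p.1 - 1756, by omega⟩, Fin.ext (show p.1 = p.1 - 1756 + 1756 by omega)⟩)
  have κ0 : κ 0 = a := if_pos rfl
  have κA : ∀ i, κ (ptA i) = ι i := fun i => by
    have hv : (ptA i).1 = i.1 + 1 := rfl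
    simp only [κ, hv, Nat.add_sub_cancel]
    rw [if_neg (by omega), dif_pos (by omega)]
  have κB : ∀ j, κ (ptB j) = yB j := fun j => by
    have hv : (ptB j).1 = j.1 + 1756 := rfl
    simp only [κ, hv, Nat.add_sub_cancel]
    rw [if_neg (by omega), dif_neg (by omega)]
  have κsurj : Function.Surjective κ := by
    intro y
    rcases Γ.three y with rfl | h | h
    · exact ⟨0, κ0⟩
    · obtain ⟨i, rfl⟩ := ιsurj y ((Γ.nbr y).2 h)
      exact ⟨ptA i, κA i⟩
    · exact ⟨ptB (we ⟨y, Finset.mem_filter.2 ⟨Finset.mem_univ _, h⟩⟩), by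
        rw [κB]; simp [yB]⟩
  have κbij : Function.Bijective κ :=
    (Fintype.bijective_iff_surjective_and_card _).2 ⟨κsurj, by rw [Fintype.card_fin, hV]⟩
  let E := Equiv.ofBijective κ κbij
  have κadj : ∀ p q, Γ.Adj (κ p) (κ q) ↔ adj p.1 q.1 = true := by
    have sym : ∀ p q : Fin 4060, (Γ.Adj (κ p) (κ q) ↔ adj p.1 q.1 = true) →
        (Γ.Adj (κ q) (κ p) ↔ adj q.1 p.1 = true) := fun p q h => by
      rw [adj_symm q.2 p.2, ← h]
      exact ⟨Γ.symm _ _, Γ.symm _ _⟩
    have h0B : ∀ j, Γ.Adj (κ 0) (κ (ptB j)) ↔ adj (0 : Fin 4060).1 (ptB j).1 = true := fun j => by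
      rw [κ0, κB, not_adj_zero_B]
      exact iff_of_false (ainO _ (yB_orb j)) Bool.false_ne_true
    have h0A : ∀ i, Γ.Adj (κ 0) (κ (ptA i)) ↔ adj (0 : Fin 4060).1 (ptA i).1 = true := fun i => by
      rw [κ0, κA, adj_zero_A]
      exact iff_of_true (ιadj i) rfl
    have hAB' : ∀ i j, Γ.Adj (κ (ptA i)) (κ (ptB j)) ↔ adj (ptA i).1 (ptB j).1 = true := fun i j => by
      rw [κA, κB, hAB]
    intro p q
    rcases cases3 p with rfl | ⟨i, rfl⟩ | ⟨j, rfl⟩ <;> rcases cases3 q with rfl | ⟨i', rfl⟩ | ⟨j', rfl⟩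
    · rw [adj_self]; exact iff_of_false (Γ.irrefl _) Bool.false_ne_true
    · exact h0A i'
    · exact h0B j'
    · exact sym _ _ (h0A i)
    · rw [κA, κA, hAA]; unfold adjA; rfl
    · exact hAB' i j'
    · exact sym _ _ (h0B j)
    · exact sym _ _ (hAB' i' j)
    · rw [κB, κB, hBB]
  let f : X →* GA := MonoidHom.mk' (fun g => ⟨(E.trans (MulAction.toPerm g)).trans E.symm, fun p q => by
      rw [Bool.eq_iff_iff, ← κadj, ← κadj]
      show Γ.Adj (E (E.symm (g • E p))) (E (E.symm (g • E q))) ↔ _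
      rw [Equiv.apply_symm_apply, Equiv.apply_symm_apply, Γ.inv]
      rfl⟩) fun g h => by
    refine Subtype.ext (Equiv.ext fun p => ?_)
    show E.symm ((g * h) • E p) = E.symm (g • E (E.symm (h • E p)))
    rw [Equiv.apply_symm_apply, mul_smul]
  have hf : Function.Injective f := by
    refine (injective_iff_map_eq_one f).2 fun g hg => ?_
    refine FaithfulSMul.eq_of_smul_eq_smul (α := V) fun y => ?_
    obtain ⟨p, rfl⟩ := E.surjective y
    have h := Equiv.ext_iff.1 (congrArg Subtype.val hg) p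
    change E.symm (g • E p) = p at h
    rw [Equiv.symm_apply_eq] at h
    rw [h, one_smul]
  have hXc : Nat.card X = 145926144000 := by
    have h := (MulAction.stabilizer X a).card_mul_index
    rw [MulAction.index_stabilizer_of_transitive, Nat.card_eq_fintype_card (α := V), hV,
      show Nat.card (MulAction.stabilizer X a) = 35942400 from hKc] at h
    omega
  obtain ⟨eR⟩ := equiv_Ru
  have hfb : Function.Bijective f :=
    (Nat.bijective_iff_injective_and_card f).2 ⟨hf, hXc.trans card_GA.symm⟩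
  exact ⟨(MulEquiv.ofBijective f hfb).trans eR⟩

end Cfsg.Agent.Lib.RuRank3
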