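import Mathlib.GroupTheory.GroupAction.Blocks
import Mathlib.GroupTheory.GroupAction.Quotient
import Mathlib.Tactic.Group
import Mathlib.GroupTheory.Index
import Mathlib.Data.Set.Card

/-! The orbital graph of a transitive action of rank three on 4060 points with suborbits 1, 1755, 2304. -/

set_option autoImplicit false

namespace Cfsg.Agent.Lib.RuRank3

variable {X V : Type*} [Group X] [Finite X] [MulAction X V] [Fintype V]

/-- The graph of the smaller suborbit. -/
structure Orbital (a b c : V) where
  /-- Adjacency. -/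
  Adj : V → V → Prop
  symm : ∀ x y, Adj x y → Adj y x
  irrefl : ∀ x, ¬ Adj x x
  inv : ∀ (g : X) x y, Adj (g • x) (g • y) ↔ Adj x y
  nbr : ∀ y, Adj a y ↔ y ∈ MulAction.orbit (MulAction.stabilizer X a) b
  three : ∀ y, y = a ∨ y ∈ MulAction.orbit (MulAction.stabilizer X a) b ∨
    y ∈ MulAction.orbit (MulAction.stabilizer X a) c
  not_c : ¬ Adj a c ∧ a ≠ c

theorem exists_orbital [MulAction.IsPretransitive X V] (hV : Fintype.card V = 4060) (a b c : V)
    (hb : (MulAction.orbit (MulAction.stabilizer X a) b).ncard = 1755)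
    (hc : (MulAction.orbit (MulAction.stabilizer X a) c).ncard = 2304) :
    Nonempty (Orbital (X := X) a b c) := by
  classical
  set K := MulAction.stabilizer X a
  have oa : MulAction.orbit K a = {a} := by
    ext y
    constructor
    · rintro ⟨k, rfl⟩; exact k.2
    · rintro rfl; exact MulAction.mem_orbit_self _
  have hba : Disjoint (MulAction.orbit K b) (MulAction.orbit K c) := by
    rcases (MulAction.orbit.eq_or_disjoint (G := K) b c) with e | e
    · rw [e, hc] at hb; omega
    · exact e
  have hab : a ≠ b := by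
    rintro rfl
    rw [oa, Set.ncard_singleton] at hb; omega
  have hac : a ≠ c := by
    rintro rfl
    rw [oa, Set.ncard_singleton] at hc; omega
  have hthree : ∀ y, y = a ∨ y ∈ MulAction.orbit K b ∨ y ∈ MulAction.orbit K c := by
    intro y
    by_contra hy
    simp only [not_or] at hy
    obtain ⟨hya, hyb, hyc⟩ := hy
    have ha1 : a ∉ MulAction.orbit K b := fun h => by
      rw [← MulAction.orbit_eq_iff.2 h, oa, Set.ncard_singleton] at hb; omega
    have ha2 : a ∉ MulAction.orbit K c := fun h => by
      rw [← MulAction.orbit_eq_iff.2 h, oa, Set.ncard_singleton] at hc; omega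
    have u1 := Set.ncard_union_eq hba (Set.toFinite _) (Set.toFinite _)
    have u2 : ({a, y} : Set V).ncard = 2 := Set.ncard_pair (Ne.symm hya)
    have d : Disjoint ({a, y} : Set V) (MulAction.orbit K b ∪ MulAction.orbit K c) := by
      rw [Set.disjoint_left]
      rintro z (rfl | rfl) <;> simp [ha1, ha2, hyb, hyc]
    have u4 := Set.ncard_union_eq d (Set.toFinite _) (Set.toFinite _)
    have u3 := Set.ncard_le_ncard
      (Set.subset_univ (({a, y} : Set V) ∪ (MulAction.orbit K b ∪ MulAction.orbit K c)))
    rw [Set.ncard_univ, Nat.card_eq_fintype_card, hV] at u3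
    omega
  have hsize : ∀ y, (MulAction.orbit K y).ncard = 1755 → y ∈ MulAction.orbit K b := by
    intro y hy
    rcases hthree y with rfl | h | h
    · rw [oa, Set.ncard_singleton] at hy; omega
    · exact h
    · rw [MulAction.orbit_eq_iff.2 h, hc] at hy; omega
  -- an element exchanging `a` and `b`
  obtain ⟨s, hs1, hs2⟩ : ∃ s : X, s • a = b ∧ s • b = a := by
    obtain ⟨g, hg⟩ := MulAction.exists_smul_eq X b a
    have key : ∀ y : V, (MulAction.orbit K y).ncard *
        Nat.card {k : X // k • a = a ∧ k • y = y} = Nat.card K := by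
      intro y
      rw [← Nat.card_coe_set_eq, ← (MulAction.stabilizer K y).index_mul_card,
        MulAction.index_stabilizer]
      congr 1
      exact Nat.card_congr
          { toFun := fun k => ⟨⟨k.1, k.2.1⟩, k.2.2⟩
            invFun := fun k => ⟨k.1.1, k.1.2, k.2⟩
            left_inv := fun _ => rfl
            right_inv := fun _ => rfl }
    have ec : Nat.card {k : X // k • a = a ∧ k • (g • a) = g • a} =
        Nat.card {k : X // k • a = a ∧ k • b = b} := by
      refine Nat.card_congr
        { toFun := fun k => ⟨g⁻¹ * k.1 * g, ?_, ?_⟩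
          invFun := fun k => ⟨g * k.1 * g⁻¹, ?_, ?_⟩
          left_inv := fun k => Subtype.ext (by group)
          right_inv := fun k => Subtype.ext (by group) }
      · rw [mul_smul, mul_smul, k.2.2, inv_smul_smul]
      · rw [mul_smul, mul_smul, hg, k.2.1, inv_smul_eq_iff, hg]
      · rw [mul_smul, mul_smul, show g⁻¹ • a = b from inv_smul_eq_iff.2 hg.symm, k.2.2, hg]
      · rw [mul_smul, mul_smul, inv_smul_smul, k.2.1]
    have h1 := key (g • a)
    rw [ec, ← key b] at h1
    have hpos : 0 < Nat.card {k : X // k • a = a ∧ k • b = b} := by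
      have : Nonempty {k : X // k • a = a ∧ k • b = b} := ⟨⟨1, by simp, by simp⟩⟩
      exact Nat.card_pos
    have h22 := (Nat.eq_of_mul_eq_mul_right hpos h1).trans hb
    obtain ⟨k, hk⟩ := hsize _ h22
    refine ⟨(k : X)⁻¹ * g, ?_, ?_⟩
    · rw [mul_smul, inv_smul_eq_iff]; exact hk.symm
    · rw [mul_smul, hg, inv_smul_eq_iff]; exact k.2.symm
  refine ⟨⟨fun x y => ∃ g : X, g • a = x ∧ g • b = y,
    fun x y ⟨g, h1, h2⟩ => ⟨g * s, by rw [mul_smul, hs1, h2], by rw [mul_smul, hs2, h1]⟩,
    fun x ⟨g, h1, h2⟩ => hab (smul_left_cancel g (h1.trans h2.symm)), ?_, ?_, hthree, ?_, hac⟩⟩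
  · intro g x y
    constructor
    · rintro ⟨h, h1, h2⟩
      exact ⟨g⁻¹ * h, by rw [mul_smul, h1, inv_smul_smul], by rw [mul_smul, h2, inv_smul_smul]⟩
    · rintro ⟨h, h1, h2⟩
      exact ⟨g * h, by rw [mul_smul, h1], by rw [mul_smul, h2]⟩
  · intro y
    constructor
    · rintro ⟨g, h1, h2⟩; exact ⟨⟨g, h1⟩, h2⟩
    · rintro ⟨k, hk⟩; exact ⟨k, k.2, hk⟩
  · rintro ⟨g, h1, h2⟩
    have hcb : c ∈ MulAction.orbit K b := ⟨⟨g, h1⟩, h2⟩
    exact Set.disjoint_left.1 hba hcb (MulAction.mem_orbit_self _)

/-- In a transitive graph of valency 1755 on 4060 points two adjacent points do not have all other neighbours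
in common. -/
theorem not_clique {Adj : V → V → Prop} (hV : Fintype.card V = 4060) (hsymm : ∀ x y, Adj x y → Adj y x)
    (hirr : ∀ x, ¬ Adj x x) (hinv : ∀ (g : X) x y, Adj (g • x) (g • y) ↔ Adj x y)
    [MulAction.IsPretransitive X V] (a : V) (hd : {y | Adj a y}.ncard = 1755)
    (h : ∀ y, Adj a y → ∀ z, Adj y z → z = a ∨ Adj a z) : False := by
  classical
  let B : V → Set V := fun x => insert x {y | Adj x y}
  have hB : ∀ x, (B x).ncard = 1756 ∧ ∀ y ∈ B x, B y ⊆ B x := by
    intro x
    obtain ⟨g, rfl⟩ := MulAction.exists_smul_eq X a x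
    have e : {y | Adj (g • a) y} = (fun y => g • y) '' {y | Adj a y} := by
      ext y
      constructor
      · intro hy
        refine ⟨g⁻¹ • y, ?_, smul_inv_smul g y⟩
        show Adj a (g⁻¹ • y)
        rw [← hinv g, smul_inv_smul]
        exact hy
      · rintro ⟨z, hz, rfl⟩
        exact (hinv g a z).2 hz
    constructor
    · rw [Set.ncard_insert_of_notMem (show g • a ∉ {y | Adj (g • a) y} from hirr _) (Set.toFinite _), e,
        Set.ncard_image_of_injective _ (MulAction.injective g), hd]
    · intro y hy z hz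
      rcases hy with rfl | hy
      · exact hz
      obtain ⟨y', hy', rfl⟩ : ∃ y', Adj a y' ∧ g • y' = y := by
        have : y ∈ {y | Adj (g • a) y} := hy
        rw [e] at this
        exact this
      rcases hz with rfl | hz
      · exact Or.inr hy
      have hz' : Adj y' (g⁻¹ • z) := by rw [← hinv g, smul_inv_smul]; exact hz
      rcases h y' hy' _ hz' with h' | h'
      · exact Or.inl (by rw [← h', smul_inv_smul])
      · refine Or.inr ?_
        show Adj (g • a) z
        rw [← smul_inv_smul g z, hinv]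
        exact h'
  have heq : ∀ x y, y ∈ B x → B y = B x := fun x y hy =>
    Set.eq_of_subset_of_ncard_le ((hB x).2 y hy) (by rw [(hB x).1, (hB y).1])
  have hdis : ∀ x y, y ∉ B x → Disjoint (B x) (B y) := by
    intro x y hy
    rw [Set.disjoint_left]
    intro z hzx hzy
    refine hy ?_
    rw [← heq x z hzx, heq y z hzy]
    exact Set.mem_insert _ _
  have huniv : (Set.univ : Set V).ncard = 4060 := by rw [Set.ncard_univ, Nat.card_eq_fintype_card, hV]
  obtain ⟨c, hc⟩ : ∃ c, c ∉ B a := by
    by_contra hh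
    push Not at hh
    have := Set.ncard_le_ncard (fun z (_ : z ∈ Set.univ) => hh z)
    rw [huniv, (hB a).1] at this; omega
  have u1 := Set.ncard_union_eq (hdis a c hc) (Set.toFinite _) (Set.toFinite _)
  rw [(hB a).1, (hB c).1] at u1
  obtain ⟨d, hd'⟩ : ∃ d, d ∉ B a ∪ B c := by
    by_contra hh
    push Not at hh
    have := Set.ncard_le_ncard (fun z (_ : z ∈ Set.univ) => hh z)
    rw [huniv, u1] at this; omega
  rw [Set.mem_union, not_or] at hd'
  have dd : Disjoint (B a ∪ B c) (B d) := Set.disjoint_union_left.2 ⟨hdis a d hd'.1, hdis c d hd'.2⟩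
  have u2 := Set.ncard_union_eq dd (Set.toFinite _) (Set.toFinite _)
  have := Set.ncard_le_ncard (Set.subset_univ ((B a ∪ B c) ∪ B d))
  rw [huniv, u2, u1, (hB d).1] at this
  omega

end Cfsg.Agent.Lib.RuRank3
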