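import Cfsg.Agent.Lib.RuRank3.Bound
import Cfsg.Agent.Lib.RuRank3.CheckClasses
import Cfsg.Agent.Lib.SporRu.Main

/-!
The automorphism group of the graph on 4060 points is the Rudvalis group, and the stabiliser of a point is the
automorphism group of the graph on its neighbours.
-/

set_option autoImplicit false
set_option maxRecDepth 100000

namespace Cfsg.Agent.Lib.RuRank3

open Cfsg.Agent.Lib.Computation (getW)
open Cfsg.Agent.Lib.RuPerm Code28 Action
open scoped MatrixGroups

attribute [local irreducible] getW dotB Code28.apply Code28.mul autP autC actN adj fLab szM pV RuPerm.Main.big Action.pt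

local notation "BG" => Cert.grp RuPerm.Main.big

theorem big_gens : (RuPerm.Main.big).tC = autC 22 ∧ (RuPerm.Main.big).sC = autC 23 ∧
    (RuPerm.Main.big).L.base = pV 0 := by
  decide +kernel

/-- Points of the module are distinct. -/
theorem pt_pV_inj {i j : Fin 4060} (h : pt (pV i.1) = pt (pV j.1)) : i = j :=
  Fin.ext (pV_inj i.2 j.2 (decV_injective (pV_lt _) (pV_lt _) (by unfold Action.pt at h; exact h)))

theorem exists_perm {g : GL (Fin 28) (ZMod 2)} (hg : g ∈ BG) :
    ∃ σ : GA, ∀ i : Fin 4060, g • pt (pV i.1) = pt (pV (σ.1 i).1) := by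
  induction hg using Subgroup.closure_induction with
  | mem y hy =>
    rcases hy with rfl | rfl
    · refine ⟨⟨aP 22, aP_mem (by norm_num)⟩, fun i => ?_⟩
      rw [smul_pt (show (((RuPerm.Main.big).t : GL (Fin 28) (ZMod 2)) : Mat) = dec (autC 22) from
        congrArg dec big_gens.1), aP_pV (by norm_num) i]
    · refine ⟨⟨aP 23, aP_mem (by norm_num)⟩, fun i => ?_⟩
      rw [smul_pt (show (((RuPerm.Main.big).s : GL (Fin 28) (ZMod 2)) : Mat) = dec (autC 23) from
        congrArg dec big_gens.2.1), aP_pV (by norm_num) i]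
  | one => exact ⟨1, fun i => one_smul _ _⟩
  | mul y z _ _ ihy ihz =>
    obtain ⟨σ, hσ⟩ := ihy
    obtain ⟨τ, hτ⟩ := ihz
    exact ⟨σ * τ, fun i => by rw [mul_smul, hτ, hσ]; rfl⟩
  | inv y _ ih =>
    obtain ⟨σ, hσ⟩ := ih
    refine ⟨σ⁻¹, fun i => ?_⟩
    rw [inv_smul_eq_iff, hσ]
    exact congrArg (fun j : Fin 4060 => pt (pV j.1)) ((σ.1.apply_symm_apply i).symm)

/-- The permutation of the points given by a matrix of the group. -/
noncomputable def toGA : ↥BG →* GA :=
  MonoidHom.mk' (fun g => (exists_perm g.2).choose) fun g h => by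
    refine Subtype.ext (Equiv.ext fun i => pt_pV_inj ?_)
    rw [← (exists_perm (g * h).2).choose_spec i]
    show ((g : GL (Fin 28) (ZMod 2)) * (h : GL (Fin 28) (ZMod 2))) • pt (pV i.1) = _
    rw [mul_smul, (exists_perm h.2).choose_spec i, (exists_perm g.2).choose_spec]
    rfl

theorem toGA_spec (g : ↥BG) (i : Fin 4060) :
    (g : GL (Fin 28) (ZMod 2)) • pt (pV i.1) = pt (pV ((toGA g).1 i).1) :=
  (exists_perm g.2).choose_spec i

theorem mem_orb {u : Point} (hu : u ∈ MulAction.orbit (↥BG) (pt (RuPerm.Main.big).L.base)) :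
    ∃ i : Fin 4060, u = pt (pV i.1) := by
  obtain ⟨g, rfl⟩ := hu
  refine ⟨(toGA g).1 0, ?_⟩
  rw [← toGA_spec]
  show (g : GL (Fin 28) (ZMod 2)) • pt (RuPerm.Main.big).L.base = _
  rw [big_gens.2.2]
  rfl

theorem toGA_injective : Function.Injective toGA := by
  refine (injective_iff_map_eq_one toGA).2 fun g hg => ?_
  refine (RuPerm.Main.big).faithful g fun a => ?_
  obtain ⟨i, hi⟩ := mem_orb a.2
  apply Subtype.ext
  show (g : GL (Fin 28) (ZMod 2)) • (a : Point) = (a : Point)
  rw [hi, toGA_spec, hg]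
  rfl

theorem transitive (i : Fin 4060) : ∃ σ : GA, σ.1 0 = i := by
  classical
  let f : (RuPerm.Main.big).Orb → Fin 4060 := fun a => (mem_orb a.2).choose
  have hf : Function.Injective f := fun a b h => by
    apply Subtype.ext
    rw [(mem_orb a.2).choose_spec, (mem_orb b.2).choose_spec]
    exact congrArg (fun j : Fin 4060 => pt (pV j.1)) h
  have : Finite (RuPerm.Main.big).Orb := Finite.of_injective f hf
  have hb : Function.Bijective f :=
    (Nat.bijective_iff_injective_and_card f).2 ⟨hf, by rw [RuPerm.Main.big_card_orb, Nat.card_fin]⟩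
  obtain ⟨a, rfl⟩ := hb.2 i
  obtain ⟨g, hg⟩ := a.2
  exact ⟨toGA g, pt_pV_inj (((toGA_spec g 0).symm.trans
    ((congrArg (fun x => (g : GL (Fin 28) (ZMod 2)) • pt x) big_gens.2.2.symm).trans hg)).trans
      (mem_orb a.2).choose_spec)⟩

theorem card_big : Nat.card ↥BG = 145926144000 :=
  (RuPerm.Main.big).card_grp.trans RuPerm.Main.big_order

theorem card_GA0_eq : Nat.card GA = 4060 * Nat.card GA0 := by
  have h := (MulAction.stabilizer GA (0 : Fin 4060)).card_mul_index
  rw [MulAction.index_stabilizer] at h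
  have ho : MulAction.orbit GA (0 : Fin 4060) = Set.univ :=
    Set.eq_univ_of_forall fun i => transitive i
  rw [ho, Set.ncard_univ, Nat.card_fin] at h
  rw [← h, mul_comm]

theorem card_bounds : Nat.card GA0 = 35942400 ∧ Nat.card UA = 35942400 := by
  have h1 := Nat.card_le_card_of_injective _ res_injective
  have h2 := card_UA_le
  have h3 := Nat.card_le_card_of_injective _ toGA_injective
  rw [card_big, card_GA0_eq] at h3
  omega

theorem card_GA : Nat.card GA = 145926144000 := by
  rw [card_GA0_eq, card_bounds.1]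

theorem res_bijective : Function.Bijective res :=
  (Nat.bijective_iff_injective_and_card res).2 ⟨res_injective, card_bounds.1.trans card_bounds.2.symm⟩

/-- The automorphism group of the graph is the Rudvalis group. -/
theorem equiv_Ru : Nonempty (GA ≃* Cfsg.Spor.Ru) := by
  obtain ⟨e⟩ := SporRu.Main.equiv_big
  have hb : Function.Bijective toGA :=
    (Nat.bijective_iff_injective_and_card toGA).2 ⟨toGA_injective, card_big.trans card_GA.symm⟩
  exact ⟨(MulEquiv.ofBijective toGA hb).symm.trans e.symm⟩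

/-- An invariant set of permuted points is a union of classes. -/
theorem exists_mask_perm {n nl k tab : ℕ} {roots : List ℕ} {act : ℕ → ℕ → ℕ}
    (hf : okForest n nl tab roots (List.range k) act = true) (p : ℕ → Equiv.Perm (Fin n))
    (hval : ∀ g < k, ∀ i : Fin n, (p g i).1 = act g i.1) (T : Fin n → Bool)
    (hT : ∀ g < k, ∀ i, T (p g i) = T i) :
    ∃ m < 2 ^ nl, ∀ i : Fin n, T i = m.testBit (fLab tab i.1) := by
  obtain ⟨m, hm, h⟩ := exists_mask hf (fun i => if hi : i < n then T ⟨i, hi⟩ else false)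
    fun g hg i hi hai => by
      simp only [dif_pos hai, dif_pos hi]
      rw [← hT g (List.mem_range.1 hg) ⟨i, hi⟩]
      exact congrArg T (Fin.ext (hval g (List.mem_range.1 hg) ⟨i, hi⟩).symm)
  exact ⟨m, hm, fun i => by have := h i.1 i.2; rwa [dif_pos i.2] at this⟩

/-- A single class means one orbit. -/
theorem orbit_of_forest {n k tab : ℕ} {roots : List ℕ} {act : ℕ → ℕ → ℕ}
    (hf : okForest n 1 tab roots (List.range k) act = true) (H : Subgroup (Equiv.Perm (Fin n)))
    (p : ℕ → Equiv.Perm (Fin n)) (hp : ∀ g < k, p g ∈ H)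
    (hval : ∀ g < k, ∀ i : Fin n, (p g i).1 = act g i.1) (x y : Fin n) :
    ∃ h ∈ H, h x = y := by
  classical
  obtain ⟨m, -, hm⟩ := exists_mask_perm hf p hval (fun i => decide (∃ h ∈ H, h x = i))
    fun g hg i => decide_eq_decide.2 ⟨fun ⟨h, hh, e⟩ =>
      ⟨(p g)⁻¹ * h, mul_mem (inv_mem (hp g hg)) hh, by
        rw [Equiv.Perm.mul_apply, e]; exact (p g).symm_apply_apply i⟩,
      fun ⟨h, hh, e⟩ => ⟨p g * h, mul_mem (hp g hg) hh, by rw [Equiv.Perm.mul_apply, e]⟩⟩
  have hl : ∀ i : Fin n, fLab tab i.1 = 0 := fun i => by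
    rw [okForest, Bool.and_eq_true, allN_iff] at hf
    have := hf.2 i.1 i.2
    rw [Bool.and_eq_true, Nat.blt_eq] at this
    omega
  have hx := hm x
  rw [hl, decide_eq_true ⟨1, one_mem H, rfl⟩] at hx
  have hy := hm y
  rw [hl, ← hx] at hy
  exact of_decide_eq_true hy

/-- An automorphism of the neighbours with the given number, the identity if there is none. -/
noncomputable def uP (k : ℕ) : Equiv.Perm (Fin 1755) := if h : k < 22 then (uA ⟨k, h⟩).1 else 1

theorem uP_mem (k : ℕ) : uP k ∈ UA := by
  rw [uP]; split_ifs with h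
  · exact (uA ⟨k, h⟩).2
  · exact one_mem _

theorem uP_val {k : ℕ} (hk : k < 22) (i : Fin 1755) : (uP k i).1 = actN k i.1 := by
  rw [uP, dif_pos hk, uA_val]

theorem UA_transitive (x y : Fin 1755) : ∃ h ∈ UA, h x = y :=
  orbit_of_forest clA_ok UA (fun g => uP ((List.range 14).getD g 0)) (fun _ _ => uP_mem _)
    (fun g hg i => by
      rw [List.getD_eq_getElem _ _ (by simpa using hg), List.getElem_range, uP_val (by omega), actAL,
        List.getD_eq_getElem _ _ (by simpa using hg), List.getElem_range]) x y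

/-- The stabiliser of the first neighbour. -/
abbrev UA0 : Subgroup UA := MulAction.stabilizer UA (0 : Fin 1755)

theorem card_stab_UA (i : Fin 1755) : Nat.card (MulAction.stabilizer UA i) = 20480 := by
  have h := (MulAction.stabilizer UA i).card_mul_index
  rw [MulAction.index_stabilizer] at h
  have ho : MulAction.orbit UA i = Set.univ := Set.eq_univ_of_forall fun j => by
    obtain ⟨g, hg, e⟩ := UA_transitive i j
    exact ⟨⟨g, hg⟩, e⟩
  rw [ho, Set.ncard_univ, Nat.card_fin, card_bounds.2] at h
  omega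

end Cfsg.Agent.Lib.RuRank3
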