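import Cfsg.Agent.Lib.RuRank3.F4
import Cfsg.Agent.Lib.RuRank3.CheckSets
import Mathlib.GroupTheory.Sylow

/-!
Subgroups of order 20480 are point stabilisers, and the invariant sets of a point stabiliser with the sizes of a
strongly regular graph.
-/

set_option autoImplicit false
set_option maxRecDepth 100000

namespace Cfsg.Agent.Lib.RuRank3

open Cfsg.Agent.Lib.Computation (getW forceNat_eq)
open scoped Pointwise

attribute [local irreducible] getW actN adj fLab szM adjA autP cntN

theorem smul_UA (g : UA) (i : Fin 1755) : g • i = g.1 i := rfl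

theorem getD_range {n g : ℕ} (h : g < n) : (List.range n).getD g 0 = g := by simp [List.getD, h]

theorem szM_eq_card {n tab m : ℕ} {T : Finset (Fin n)}
    (h : ∀ i : Fin n, decide (i ∈ T) = m.testBit (fLab tab i.1)) : szM n tab m = T.card := by
  rw [← card_mask h]
  exact congrArg Finset.card (by ext i; simp)

theorem orbit_five {M : Subgroup UA} (hM : Nat.card M = 20480) (hS : S2 ≤ M) :
    M ≤ MulAction.stabilizer UA (0 : Fin 1755) := by
  classical
  set O : Set (Fin 1755) := MulAction.orbit M (0 : Fin 1755) with hO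
  have hidx : O.ncard * Nat.card (MulAction.stabilizer M (0 : Fin 1755)) = 20480 := by
    rw [hO, ← MulAction.index_stabilizer, Subgroup.index_mul_card, hM]
  have hle : 4096 ∣ Nat.card (MulAction.stabilizer M (0 : Fin 1755)) := by
    rw [← card_S2]
    exact Subgroup.card_dvd_of_injective
      (⟨⟨fun g => ⟨⟨g.1, hS g.2⟩, S2_fix g.2⟩, rfl⟩, fun _ _ => rfl⟩ :
        S2 →* MulAction.stabilizer M (0 : Fin 1755)) fun a b e => Subtype.ext (congrArg (fun z => z.1.1) e)
  obtain ⟨c, hc⟩ := hle
  rw [hc] at hidx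
  have h5 : O.ncard ∣ 5 := ⟨c, by nlinarith⟩
  rcases (Nat.dvd_prime Nat.prime_five).1 h5 with h1 | h1
  · intro g hg
    obtain ⟨x, hx⟩ := Set.ncard_eq_one.1 h1
    have m1 : (0 : Fin 1755) ∈ O := MulAction.mem_orbit_self _
    have m2 : g • (0 : Fin 1755) ∈ O := ⟨⟨g, hg⟩, rfl⟩
    rw [hx, Set.mem_singleton_iff] at m1 m2
    exact m2.trans m1.symm
  exfalso
  obtain ⟨m, hm, hT⟩ := exists_mask_perm clS2_ok (fun g => uP ((List.range 12).getD g 0))
    (fun g hg i => by
      rw [List.getD_eq_getElem _ _ (by simpa using hg), List.getElem_range, uP_val (by omega), actAL,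
        List.getD_eq_getElem _ _ (by simpa using hg), List.getElem_range])
    (fun i => decide (i ∈ O.toFinset)) fun g hg i => by
      rw [List.getD_eq_getElem _ _ (by simpa using hg), List.getElem_range]
      simp only [Set.mem_toFinset]
      exact decide_eq_decide.2 (MulAction.mem_orbit_symm.trans (by
        rw [show uP g i = (⟨⟨uP g, uP_mem g⟩, hS (uP_mem_S2 hg)⟩ : M) • i from rfl, hO]
        rw [MulAction.orbit_smul, MulAction.mem_orbit_symm]))
  have h := allN_iff.1 five_ok m hm
  rw [szM_eq_card hT, (Set.ncard_eq_toFinset_card' O).symm.trans h1] at h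
  have h0 := hT (0 : Fin 1755)
  rw [decide_eq_true (Set.mem_toFinset.2 (MulAction.mem_orbit_self _))] at h0
  rw [show ((0 : Fin 1755) : ℕ) = 0 from rfl] at h0
  rw [← h0] at h
  simp at h

/-- A subgroup of order 20480 is the stabiliser of a point. -/
theorem exists_stab_eq {M : Subgroup UA} (hM : Nat.card M = 20480) :
    ∃ i : Fin 1755, M = MulAction.stabilizer UA i := by
  classical
  have : Fact (Nat.Prime 2) := ⟨Nat.prime_two⟩
  obtain ⟨P, hP⟩ := Sylow.exists_subgroup_card_pow_prime 2 (G := M) (n := 12) (by rw [hM]; norm_num)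
  have hv : (35942400 : ℕ).factorization 2 = 11 + 1 := by
    rw [show (35942400 : ℕ) = 2 ^ 12 * 8775 by norm_num, Nat.factorization_mul (by norm_num) (by norm_num)]
    rw [Nat.Prime.factorization_pow Nat.prime_two, Finsupp.add_apply, Finsupp.single_eq_same,
      Nat.factorization_eq_zero_of_not_dvd (by norm_num)]
  set Q := P.map M.subtype with hQ
  have hQc : Nat.card Q = 2 ^ (Nat.card UA).factorization 2 := by
    rw [hQ, Subgroup.card_map_of_injective M.subtype_injective, hP, card_bounds.2, hv]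
  have hSc : Nat.card S2 = 2 ^ (Nat.card UA).factorization 2 := by
    rw [card_S2, card_bounds.2, hv]; norm_num
  obtain ⟨u, hu⟩ := MulAction.exists_smul_eq UA (Sylow.ofCard Q hQc) (Sylow.ofCard S2 hSc)
  set M' := M.map (MulAut.conj u).toMonoidHom with hM'
  have hc' : Nat.card M' = 20480 := by
    rw [hM', Subgroup.card_map_of_injective (MulAut.conj u).injective, hM]
  have hle : S2 ≤ M' := by
    intro s hs
    have hs' : s ∈ ((u • Sylow.ofCard Q hQc : Sylow 2 UA) : Subgroup UA) := by rw [hu]; exact hs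
    rw [Sylow.coe_subgroup_smul, Subgroup.mem_pointwise_smul_iff_inv_smul_mem] at hs'
    refine Subgroup.mem_map.2 ⟨_, Subgroup.map_subtype_le P hs', ?_⟩
    simp [MulAut.conj_apply, mul_assoc]
  have hst := orbit_five hc' hle
  refine ⟨u⁻¹ • (0 : Fin 1755), Subgroup.eq_of_le_of_card_ge ?_ (by rw [card_stab_UA, hM])⟩
  intro g hg
  have h := hst (Subgroup.mem_map.2 ⟨g, hg, rfl⟩)
  rw [MulAction.mem_stabilizer_iff, MulEquiv.coe_toMonoidHom, MulAut.conj_apply, mul_smul, mul_smul] at h
  rw [MulAction.mem_stabilizer_iff, eq_inv_smul_iff]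
  exact h

/-- The invariant sets of the stabiliser of a neighbour with the sizes of a regular graph. -/
theorem lam_eq (T : Finset (Fin 1755)) (h0 : (0 : Fin 1755) ∉ T)
    (hinv : ∀ g : UA, g.1 0 = 0 → ∀ i, g.1 i ∈ T ↔ i ∈ T) (hs : T.card ≠ 1754)
    (hdvd : 2304 ∣ 1755 * (1754 - T.card)) (i : Fin 1755) : i ∈ T ↔ adjA 0 i.1 = true := by
  classical
  have hfix : ∀ g < 13, uP (idsU0.getD g 0) 0 = 0 := by
    intro g hg
    have hk : idsU0.getD g 0 < 22 ∧ Nat.beq (actN (idsU0.getD g 0) 0) 0 = true := by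
      have h : allN 13 (fun g => Nat.blt (idsU0.getD g 0) 22 &&
          Nat.beq (actN (idsU0.getD g 0) 0) 0) = true := by decide +kernel
      have := allN_iff.1 h g hg
      rwa [Bool.and_eq_true, Nat.blt_eq] at this
    exact Fin.ext ((uP_val hk.1 0).trans (Nat.eq_of_beq_eq_true hk.2))
  obtain ⟨m, hm, hT⟩ := exists_mask_perm clU0_ok (fun g => uP (idsU0.getD g 0))
    (fun g hg i => uP_val (by
      have h : allN 13 (fun g => Nat.blt (idsU0.getD g 0) 22) = true := by decide +kernel
      have := allN_iff.1 h g hg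
      rwa [Nat.blt_eq] at this) i)
    (fun i => decide (i ∈ T))
    fun g hg i => decide_eq_decide.2 (hinv ⟨_, uP_mem _⟩ (hfix g hg) i)
  have h := allN_iff.1 lam_ok m hm
  rw [lamB, forceNat_eq, szM_eq_card hT] at h
  have hm0 := hT (0 : Fin 1755)
  rw [decide_eq_false h0, show ((0 : Fin 1755) : ℕ) = 0 from rfl] at hm0
  simp only [← hm0, Bool.false_or, Bool.or_eq_true, Bool.not_eq_true'] at h
  rcases h with (h | h) | h
  · exact absurd (Nat.eq_of_beq_eq_true h) hs
  · have e : Nat.mod (1755 * (1754 - T.card)) 2304 = 0 := Nat.mod_eq_zero_of_dvd hdvd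
    rw [e] at h
    simp at h
  · rw [← beq_iff_eq.1 (allN_iff.1 h i.1 i.2), ← hT, decide_eq_true_iff]

/-- A non-neighbour of the first point. -/
def ptB (j : Fin 2304) : Fin 4060 := ⟨j.1 + 1756, by omega⟩

theorem image_memB (g : GA0) (j : Fin 2304) : 1756 ≤ ((g : GA).1 (ptB j)).1 := by
  by_contra hlt
  have h := (g : GA).2 0 (ptB j)
  rw [stab_apply] at h
  have hne : ((g : GA).1 (ptB j)).1 ≠ 0 := fun e => by
    have e' := (g : GA).1.injective ((Fin.ext e : (g : GA).1 (ptB j) = 0).trans (stab_apply g).symm)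
    exact absurd (congrArg Fin.val e') (by simp [ptB])
  have := (adj_zero (ptB j).2).1 (h.symm.trans ((adj_zero ((g : GA).1 (ptB j)).2).2 ⟨by omega, by omega⟩))
  simp [ptB] at this

/-- The action on the non-neighbours. -/
def actB (g : GA0) (j : Fin 2304) : Fin 2304 :=
  ⟨((g : GA).1 (ptB j)).1 - 1756, by have := image_memB g j; omega⟩

theorem ptB_actB (g : GA0) (j : Fin 2304) : ptB (actB g j) = (g : GA).1 (ptB j) :=
  Fin.ext (Nat.sub_add_cancel (image_memB g j))

theorem ptB_inj {i j : Fin 2304} (h : ptB i = ptB j) : i = j :=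
  Fin.ext (Nat.add_right_cancel (Fin.val_eq_of_eq h))

/-- The non-neighbours as permuted points. -/
def permB (g : GA0) : Equiv.Perm (Fin 2304) where
  toFun := actB g
  invFun := actB g⁻¹
  left_inv j := ptB_inj (by rw [ptB_actB, ptB_actB]; exact (g : GA).1.symm_apply_apply _)
  right_inv j := ptB_inj (by rw [ptB_actB, ptB_actB]; exact (g : GA).1.apply_symm_apply _)

/-- An automorphism on the non-neighbours, the identity if there is none with the given number. -/
noncomputable def bP (k : ℕ) : Equiv.Perm (Fin 2304) := if h : k < 22 then permB (gA ⟨k, h⟩) else 1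

theorem bP_val {k : ℕ} (hk : k < 22) (j : Fin 2304) :
    (bP k j).1 = getW 12 (autP k) (j.1 + 1756) - 1756 := by
  rw [bP, dif_pos hk]
  show (aP k (ptB j)).1 - 1756 = _
  rw [aP_val (lt_trans hk (by norm_num))]
  rfl

/-- Every non-neighbour is the image of any other. -/
theorem GA0_transitive_B (x y : Fin 2304) : ∃ g : GA0, (g : GA).1 (ptB x) = ptB y := by
  let H : Subgroup (Equiv.Perm (Fin 2304)) :=
    { carrier := {σ | ∃ g : GA0, σ = permB g}
      mul_mem' := fun ⟨g, e⟩ ⟨g', e'⟩ => ⟨g * g', by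
        subst e e'
        exact Equiv.ext fun j => ptB_inj (by
          show ptB (actB g (actB g' j)) = ptB (actB (g * g') j)
          rw [ptB_actB, ptB_actB, ptB_actB]
          rfl)⟩
      one_mem' := ⟨1, Equiv.ext fun j => ptB_inj (by
        show ptB j = ptB (actB 1 j)
        rw [ptB_actB]; rfl)⟩
      inv_mem' := fun ⟨g, e⟩ => ⟨g⁻¹, by subst e; exact Equiv.ext fun j => rfl⟩ }
  obtain ⟨h, ⟨g, rfl⟩, e⟩ := orbit_of_forest clB_ok H (fun g => bP g)
    (fun g hg => ⟨gA ⟨g, lt_trans hg (by norm_num)⟩, by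
      rw [bP, dif_pos (lt_trans hg (by norm_num : 14 < 22))]⟩)
    (fun g hg j => by
      refine (bP_val (lt_trans hg (by norm_num : 14 < 22)) j).trans ?_
      show _ = getW 12 (autP ((List.range 14).getD g 0)) (j.1 + 1756) - 1756
      exact congrArg (fun k => getW 12 (autP k) (j.1 + 1756) - 1756) (getD_range hg).symm) x y
  exact ⟨g, by rw [← ptB_actB]; exact congrArg ptB e⟩

/-- The invariant set of size 975 of the stabiliser of a non-neighbour. -/
theorem nbrB_eq (T : Finset (Fin 2304))
    (hinv : ∀ g : GA0, (g : GA).1 (ptB 0) = ptB 0 → ∀ j, actB g j ∈ T ↔ j ∈ T) (hT : T.card = 975)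
    (j : Fin 2304) : j ∈ T ↔ adj 1756 (j.1 + 1756) = true := by
  classical
  have hfix : ∀ g < 2, idsW0.getD g 0 < 22 ∧ getW 12 (autP (idsW0.getD g 0)) 1756 = 1756 := by
    intro g hg
    have h : allN 2 (fun g => Nat.blt (idsW0.getD g 0) 22 &&
        Nat.beq (getW 12 (autP (idsW0.getD g 0)) 1756) 1756) = true := by decide +kernel
    have := allN_iff.1 h g hg
    rw [Bool.and_eq_true, Nat.blt_eq] at this
    exact ⟨this.1, Nat.eq_of_beq_eq_true this.2⟩
  obtain ⟨m, hm, hm'⟩ := exists_mask_perm clW0_ok (fun g => bP (idsW0.getD g 0))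
    (fun g hg i => bP_val (hfix g hg).1 i) (fun i => decide (i ∈ T))
    fun g hg i => decide_eq_decide.2 (by
      rw [bP, dif_pos (hfix g hg).1]
      exact hinv _ (Fin.ext ((aP_val (lt_trans (hfix g hg).1 (by norm_num)) _).trans (hfix g hg).2)) i)
  have h := allN_iff.1 w0_ok m hm
  rw [szM_eq_card hm', hT] at h
  simp only [Nat.beq, Bool.or_eq_true, Bool.not_eq_true', allN_iff, beq_iff_eq] at h
  rcases h with h | h
  · exact absurd h (by decide)
  · rw [← h j.1 j.2, ← hm', decide_eq_true_iff]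

end Cfsg.Agent.Lib.RuRank3
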