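import Cfsg.Agent.Lib.RuRank3.Defs
import Cfsg.Agent.Lib.RuRank3.SylowData

/-! The functions checked for the sets of size 780. -/

set_option autoImplicit false
set_option maxRecDepth 100000

namespace Cfsg.Agent.Lib.RuRank3

open Cfsg.Agent.Lib.Computation (getW forceNat)

/-- An iterated automorphism. -/
def powN (k : ℕ) : ℕ → ℕ → ℕ
  | 0, p => p
  | e + 1, p => forceNat (powN k e p) fun q => actN k q

/-- A word of automorphisms, the first letter first. -/
def rFn : List ℕ → ℕ → ℕ
  | [], p => p
  | g :: w, p => forceNat (actN g p) fun q => rFn w q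

/-- The inverse of one of the first 14 automorphisms. -/
def invN (g p : ℕ) : ℕ := getW 11 (Data.invTab.getD g 0) p

/-- The inverse of a word of automorphisms. -/
def rInv : List ℕ → ℕ → ℕ
  | [], p => p
  | g :: w, p => forceNat (rInv w p) fun q => invN g q

/-- A conjugate of one of the two generators of the Sylow 5-subgroup. -/
def erFn (w : List ℕ) (g p : ℕ) : ℕ :=
  forceNat (rInv w p) fun a => forceNat (actN (16 + g) a) fun b => rFn w b

/-- The representative of a code. -/
def codeR (j : ℕ) : ℕ := Nat.land (getW 12 Data.codeTab j) 255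

/-- The power of a code. -/
def codeA (j : ℕ) : ℕ := Nat.shiftRight (getW 12 Data.codeTab j) 8

/-- The word of a representative. -/
def repW (r : ℕ) : List ℕ := (Data.reps.getD r ([], 0, [], 0, 0)).1

/-- Map, passing the values on in evaluated form. -/
def stepF (f : ℕ → ℕ) : List ℕ → (List ℕ → Bool) → Bool
  | [], K => K []
  | p :: ps, K => forceNat (f p) fun q => stepF f ps fun L => K (q :: L)

/-- The hash of a list of points. -/
def hashL : List ℕ → ℕ
  | [] => 0
  | p :: ps => getW 40 Data.wTab p + hashL ps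

/-- The table entry of a code agrees with the hash. -/
def slotOK (c : ℕ) (L : List ℕ) : Bool :=
  forceNat (getW 14 Data.hPos c) fun q =>
    Nat.blt q 14976 && Nat.beq (getW 14 Data.hOrd q) c && Nat.beq (getW 48 Data.hTab q) (hashL L)

/-- Thirteen codes in turn. -/
def rowOK (c : ℕ) : ℕ → List ℕ → Bool
  | 0, _ => true
  | n + 1, L => slotOK c L && stepF (actN 14) L fun L' => rowOK (c + 1) n L'

/-- All codes of one representative and power. -/
def rowJ (j : ℕ) : Bool :=
  Nat.blt (codeR j) 102 && stepF (fun p => powN 15 (codeA j) (rFn (repW (codeR j)) p)) Data.key0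
    fun L => rowOK (13 * j) 13 L

/-- The cycle of a point. -/
def cycN (p : ℕ) : ℕ := Nat.land (getW 12 Data.cycTab p) 255

/-- Its position in the cycle. -/
def cycK (p : ℕ) : ℕ := Nat.shiftRight (getW 12 Data.cycTab p) 8

/-- The first point of a cycle. -/
def cRep (q : ℕ) : ℕ := getW 11 Data.cycReps q

/-- The label of a cycle. -/
def rLab (tab q : ℕ) : ℕ := Nat.land (getW 24 tab q) 3

/-- The depth of a cycle. -/
def rDep (tab q : ℕ) : ℕ := Nat.land (Nat.shiftRight (getW 24 tab q) 2) 511

/-- The generator leading to a cycle. -/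
def rGen (tab q : ℕ) : ℕ := Nat.land (Nat.shiftRight (getW 24 tab q) 11) 3

/-- The point carried to a cycle. -/
def rPar (tab q : ℕ) : ℕ := Nat.shiftRight (getW 24 tab q) 13

/-- The forest of cycles of a representative. -/
def okRepForest (w : List ℕ) (nl : ℕ) (roots : List ℕ) (tab : ℕ) : Bool :=
  Nat.beq roots.length nl && (w.all fun g => Nat.blt g 14) &&
  allN 135 fun q => Nat.blt (rLab tab q) nl &&
    bif Nat.beq (rDep tab q) 0 then Nat.beq (roots.getD (rLab tab q) 0) q
    else forceNat (rPar tab q) fun p => Nat.blt p 1755 && Nat.blt (rGen tab q) 2 &&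
      forceNat (cycN p) fun q' => Nat.beq (rLab tab q') (rLab tab q) && Nat.blt (rDep tab q') (rDep tab q) &&
        forceNat (erFn w (rGen tab q) p) fun p' => Nat.blt p' 1755 && Nat.beq (cycN p') q

/-- A union of classes of size 780 is the set attached to the representative. -/
def okRepSets (nl wr tab : ℕ) : Bool :=
  allN (2 ^ nl) fun m =>
    !(Nat.beq (cntN 1755 fun p => m.testBit (rLab tab (cycN p))) 780) ||
      (Nat.ble 1756 wr && Nat.blt wr 4060 &&
        allN 1755 fun p => m.testBit (rLab tab (cycN p)) == adj (p + 1) wr)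

/-- A representative is checked. -/
def okRep (r : List ℕ × ℕ × List ℕ × ℕ × ℕ) : Bool :=
  okRepForest r.1 r.2.1 r.2.2.1 r.2.2.2.2 && okRepSets r.2.1 r.2.2.2.1 r.2.2.2.2

/-- The value of an entry of the table of triples. -/
def tripVal (q : ℕ) : ℕ := Nat.land (getW 56 Data.tripTab q) 8589934591

/-- The components of a triple. -/
def tripC (q i : ℕ) : ℕ := Nat.land (Nat.shiftRight (tripVal q) (11 * i)) 2047

/-- An entry of the table of triples. -/
def okTrip (q : ℕ) : Bool :=
  forceNat (getW 56 Data.tripTab q) fun e =>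
    (bif Nat.beq (Nat.shiftRight e 48) 0 then Nat.beq q Data.tripRoot
    else forceNat (Nat.land (Nat.shiftRight e 33) 4095) fun pa =>
      forceNat (16 + Nat.land (Nat.shiftRight e 45) 7) fun g =>
        Nat.blt pa 2400 && Nat.blt g 20 &&
        Nat.blt (Nat.shiftRight (getW 56 Data.tripTab pa) 48) (Nat.shiftRight e 48) &&
        Nat.beq (tripC q 0) (actN g (tripC pa 0)) && Nat.beq (tripC q 1) (actN g (tripC pa 1)) &&
        Nat.beq (tripC q 2) (actN g (tripC pa 2))) &&
    Nat.blt (tripC q 0) 1755 && Nat.blt (tripC q 1) 1755 && Nat.blt (tripC q 2) 1755 &&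
    Nat.beq (tripVal q) (tripC q 0 + 2048 * (tripC q 1 + 2048 * tripC q 2)) &&
    (Nat.beq q 0 || Nat.blt (tripVal (q - 1)) (tripVal q))

end Cfsg.Agent.Lib.RuRank3
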